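import Groth.Agent.KReg44.Ideal
import Mathlib.RingTheory.Localization.Away.Basic
import Mathlib.RingTheory.Idempotents

/-!
# Koszul-regular ideals of a finite product of rings
-/

set_option autoImplicit false

universe u

namespace Groth.Agent.KReg44

variable {ι : Type u} [Finite ι] {B : ι → Type u} [∀ j, CommRing (B j)]

theorem isKoszulRegularIdeal_pi (J : Ideal (Π j, B j))
    (h : ∀ j, LCI.IsKoszulRegularIdeal (J.map (Pi.evalRingHom B j))) : LCI.IsKoszulRegularIdeal J := by
  classical
  cases nonempty_fintype ι
  intro p hp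
  obtain ⟨j, hj⟩ : ∃ j, (Pi.single j 1 : Π j, B j) ∉ p.asIdeal := by
    by_contra hc
    push Not at hc
    refine p.isPrime.ne_top ((Ideal.eq_top_iff_one _).2 ?_)
    rw [show (1 : Π j, B j) = ∑ j, Pi.single j 1 from (Finset.univ_sum_single 1).symm]
    exact Ideal.sum_mem _ fun j _ => hc j
  letI : Algebra (Π j, B j) (B j) := (Pi.evalRingHom B j).toAlgebra
  let e : Π j, B j := Pi.single j 1
  have hker : ∀ x, Pi.evalRingHom B j x = 0 ↔ x * e = 0 := fun x => by
    constructor
    · intro hx
      funext k
      rcases eq_or_ne k j with rfl | hk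
      · simpa [e] using hx
      · simp [e, hk]
    · intro hx
      simpa [e] using congrFun hx j
  haveI haway : IsLocalization.Away e (B j) := by
    refine IsLocalization.away_of_isIdempotentElem_of_mul ?_ (fun x y => ?_) (Function.surjective_eval j)
    · change e * e = e
      funext k
      rcases eq_or_ne k j with rfl | hk <;> simp [e, *]
    · change Pi.evalRingHom B j x = Pi.evalRingHom B j y ↔ _
      rw [← sub_eq_zero, ← map_sub, hker, sub_mul, sub_eq_zero, mul_comm x, mul_comm y]
  have hdisj : Disjoint (Submonoid.powers e : Set (Π j, B j)) p.asIdeal :=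
    (Ideal.disjoint_powers_iff_notMem_of_isPrime e).2 hj
  let q : Ideal (B j) := p.asIdeal.map (Pi.evalRingHom B j)
  haveI hq : q.IsPrime := IsLocalization.isPrime_of_isPrime_disjoint _ (B j) _ p.isPrime hdisj
  have hqc : q.comap (Pi.evalRingHom B j) = p.asIdeal :=
    IsLocalization.under_map_of_isPrime_disjoint _ (B j) p.isPrime hdisj
  obtain ⟨g, hg, l, hl, hspan⟩ := h j ⟨q, hq⟩ (Ideal.map_mono hp)
  let G : Π j, B j := Pi.single j g
  have hG : G ∉ p.asIdeal := fun hGp => hg (by
    have h1 := Ideal.mem_map_of_mem (Pi.evalRingHom B j) hGp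
    simpa [G] using h1)
  let T := Localization.Away g
  haveI : IsLocalization.Away (algebraMap (Π j, B j) (B j) G) T := by
    rw [show algebraMap (Π j, B j) (B j) G = g from Pi.single_eq_same j g]; infer_instance
  haveI : IsLocalization.Away G T := by
    have h1 := IsLocalization.Away.mul' (B j) T e G
    rwa [show e * G = G from funext fun k => by
      rcases eq_or_ne k j with rfl | hk <;> simp [e, G, *]] at h1
  let ε : T ≃ₐ[Π j, B j] Localization.Away G := IsLocalization.algEquiv (Submonoid.powers G) _ _
  obtain ⟨l', hl', hl'I⟩ := exists_map ε.toRingEquiv.toRingHom (RingHom.Flat.of_bijective ε.bijective)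
    ⟨l, hl, hspan.symm⟩
  refine ⟨G, hG, l', hl', ?_⟩
  refine (hl'I.trans ?_).symm
  rw [Ideal.map_map, Ideal.map_map]
  congr 1
  refine RingHom.ext fun x => ?_
  exact ε.commutes x

end Groth.Agent.KReg44
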