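import Groth.Agent.KReg44.Basic
import Groth.Prelude.Def_CAlgX

/-!
# Relations between the terms of a Koszul-regular sequence
-/

open CategoryTheory Limits CochainComplex HomComplex

universe u

namespace Groth.Agent.KReg44

variable {R : Type u} [CommRing R]

/-- The list of values of a finite sequence, by recursion on the length. -/
def toL : ∀ n, (Fin n → R) → List R
  | 0, _ => []
  | n + 1, f => f 0 :: toL n (Fin.tail f)

theorem toL_eq_ofFn : ∀ n (f : Fin n → R), toL n f = List.ofFn f
  | 0, f => by simp [toL]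
  | n + 1, f => by rw [toL, List.ofFn_succ, toL_eq_ofFn n]; rfl

/-- Coordinates in degree `-1`. -/
noncomputable def V : ∀ n (f : Fin n → R), (Fin n → R) →ₗ[R] (Koszul.koszul R (toL n f)).X (-1)
  | 0, _ => 0
  | n + 1, f =>
    ((mappingCone.inl (KoszulWiebe.mul (f 0) (toL n (Fin.tail f)))).v 0 (-1) (by norm_num)).hom ∘ₗ
      (LinearMap.toSpanSingleton R _ (KoszulWiebe.e0 (toL n (Fin.tail f)))) ∘ₗ LinearMap.proj 0 +
    ((mappingCone.inr (KoszulWiebe.mul (f 0) (toL n (Fin.tail f)))).f (-1)).hom ∘ₗ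
      V n (Fin.tail f) ∘ₗ LinearMap.funLeft R R Fin.succ

/-- The submodule of trivial relations. -/
def Triv (n : ℕ) (f : Fin n → R) : Submodule R (Fin n → R) :=
  Submodule.span R {v : Fin n → R | ∃ i j : Fin n, v = Pi.single i (f j) - Pi.single j (f i)}

theorem d_V : ∀ n (f : Fin n → R) (a : Fin n → R),
    ((Koszul.koszul R (toL n f)).d (-1) 0).hom (V n f a) = (∑ i, a i * f i) • KoszulWiebe.e0 (toL n f)
  | 0, f, a => by simp [V]
  | n + 1, f, a => by
    let l := toL n (Fin.tail f)
    have hz : IsZero ((Koszul.koszul R l).X 1) := KosCone.Basic.isZero_X l 1 (by omega)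
    change ((mappingCone (KoszulWiebe.mul (f 0) l)).d (-1) 0).hom
      (((mappingCone.inl (KoszulWiebe.mul (f 0) l)).v 0 (-1) (by norm_num)).hom (a 0 • KoszulWiebe.e0 l) +
        ((mappingCone.inr (KoszulWiebe.mul (f 0) l)).f (-1)).hom (V n (Fin.tail f) (Fin.tail a))) = _
    rw [map_add, ← LinearMap.comp_apply, ← ModuleCat.hom_comp, ← LinearMap.comp_apply, ← ModuleCat.hom_comp,
      mappingCone.inl_v_d (KoszulWiebe.mul (f 0) l) 0 (-1) 1 (by omega) (by omega),
      mappingCone.inr_f_d, hz.eq_of_tgt ((Koszul.koszul R l).d 0 1) 0, zero_comp, sub_zero]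
    simp only [ModuleCat.hom_comp, LinearMap.comp_apply, KoszulWiebe.mul_f_apply]
    rw [show ((Koszul.koszul R l).d (-1) 0).hom (V n (Fin.tail f) (Fin.tail a)) = _ from
      d_V n (Fin.tail f) (Fin.tail a), smul_smul, map_smul, map_smul, ← add_smul]
    rw [Fin.sum_univ_succ, show f 0 * a 0 = a 0 * f 0 from mul_comm _ _]
    rfl

theorem V_surjective : ∀ n (f : Fin n → R), Function.Surjective (V n f)
  | 0, f => fun y => by
    haveI := ModuleCat.subsingleton_of_isZero (KosCone.Basic.isZero_X ([] : List R) (-1) (by simp))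
    exact ⟨0, Subsingleton.elim (α := (Koszul.koszul R ([] : List R)).X (-1)) _ _⟩
  | n + 1, f => fun y => by
    let l := toL n (Fin.tail f)
    have hid := ConcreteCategory.congr_hom (mappingCone.id_X (KoszulWiebe.mul (f 0) l) (-1) 0 (by norm_num)) y
    simp only [ModuleCat.hom_add, ModuleCat.hom_comp, LinearMap.add_apply, LinearMap.comp_apply,
      ModuleCat.hom_id, LinearMap.id_apply] at hid
    set w := ((mappingCone.fst (KoszulWiebe.mul (f 0) l)).1.v (-1) 0 (by norm_num)).hom y
    set z := ((mappingCone.snd (KoszulWiebe.mul (f 0) l)).v (-1) (-1) (add_zero _)).hom y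
    obtain ⟨b, hb⟩ := V_surjective n (Fin.tail f) z
    refine ⟨Fin.cons ((KoszulWiebe.t0 l).hom w) b, ?_⟩
    rw [← hid]
    change ((mappingCone.inl (KoszulWiebe.mul (f 0) l)).v 0 (-1) (by norm_num)).hom
        (((KoszulWiebe.t0 l).hom w : R) • KoszulWiebe.e0 l) +
      ((mappingCone.inr (KoszulWiebe.mul (f 0) l)).f (-1)).hom (V n (Fin.tail f) b) = _
    rw [← KoszulWiebe.eq_smul_e0 l w, hb]

theorem V_injective : ∀ n (f : Fin n → R), Function.Injective (V n f)
  | 0, f => fun a b _ => Subsingleton.elim _ _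
  | n + 1, f => by
    let l := toL n (Fin.tail f)
    rw [injective_iff_map_eq_zero]
    intro a ha
    change ((mappingCone.inl (KoszulWiebe.mul (f 0) l)).v 0 (-1) (by norm_num)).hom (a 0 • KoszulWiebe.e0 l) +
        ((mappingCone.inr (KoszulWiebe.mul (f 0) l)).f (-1)).hom (V n (Fin.tail f) (Fin.tail a)) = 0 at ha
    have h1 := congrArg ((mappingCone.fst (KoszulWiebe.mul (f 0) l)).1.v (-1) 0 (by norm_num)).hom ha
    have h2 := congrArg ((mappingCone.snd (KoszulWiebe.mul (f 0) l)).v (-1) (-1) (add_zero _)).hom ha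
    rw [map_zero, map_add, ← LinearMap.comp_apply, ← ModuleCat.hom_comp, ← LinearMap.comp_apply,
      ← ModuleCat.hom_comp] at h1 h2
    simp only [mappingCone.inl_v_fst_v, mappingCone.inr_f_fst_v, mappingCone.inl_v_snd_v,
      mappingCone.inr_f_snd_v, ModuleCat.hom_id, ModuleCat.hom_zero, LinearMap.zero_apply, add_zero,
      zero_add, LinearMap.id_apply] at h1 h2
    have h0 : a 0 = 0 := by
      have h3 := congrArg (KoszulWiebe.t0 l).hom h1
      rwa [map_smul, map_zero, KoszulWiebe.t0_e0, smul_eq_mul, mul_one] at h3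
    have ht : Fin.tail a = 0 := V_injective n (Fin.tail f) (by rw [h2, map_zero])
    funext i
    refine Fin.cases h0 (fun j => ?_) i
    exact congrFun ht j

theorem cons_zero_mem_triv {n : ℕ} (f : Fin (n + 1) → R) {τ : Fin n → R} (h : τ ∈ Triv n (Fin.tail f)) :
    Fin.cons 0 τ ∈ Triv (n + 1) f := by
  induction h using Submodule.span_induction with
  | mem v hv =>
    obtain ⟨i, j, rfl⟩ := hv
    refine Submodule.subset_span ⟨i.succ, j.succ, funext fun k => ?_⟩
    refine Fin.cases ?_ (fun k => ?_) k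
    · simp [Pi.single_apply, (Fin.succ_ne_zero _).symm]
    · simp [Pi.single_apply, Fin.tail, Fin.succ_inj]
  | zero =>
    convert Submodule.zero_mem _
    funext k; refine Fin.cases ?_ (fun k => ?_) k <;> simp
  | add u v _ _ hu hv =>
    convert Submodule.add_mem _ hu hv using 1
    funext k; refine Fin.cases ?_ (fun k => ?_) k <;> simp
  | smul c u _ hu =>
    convert Submodule.smul_mem _ c hu using 1
    funext k; refine Fin.cases ?_ (fun k => ?_) k <;> simp

theorem exists_triv_of_boundary : ∀ n (f : Fin n → R) (y : (Koszul.koszul R (toL n f)).X (-2)),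
    ∃ τ ∈ Triv n f, ((Koszul.koszul R (toL n f)).d (-2) (-1)).hom y = V n f τ
  | 0, f, y => by
    haveI := ModuleCat.subsingleton_of_isZero (KosCone.Basic.isZero_X ([] : List R) (-1) (by simp))
    exact ⟨0, zero_mem _, Subsingleton.elim (α := (Koszul.koszul R ([] : List R)).X (-1)) _ _⟩
  | n + 1, f, y => by
    let l := toL n (Fin.tail f)
    have hid := ConcreteCategory.congr_hom
      (mappingCone.id_X (KoszulWiebe.mul (f 0) l) (-2) (-1) (by norm_num)) y
    simp only [ModuleCat.hom_add, ModuleCat.hom_comp, LinearMap.add_apply, LinearMap.comp_apply,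
      ModuleCat.hom_id, LinearMap.id_apply] at hid
    set w := ((mappingCone.fst (KoszulWiebe.mul (f 0) l)).1.v (-2) (-1) (by norm_num)).hom y
    set z := ((mappingCone.snd (KoszulWiebe.mul (f 0) l)).v (-2) (-2) (add_zero _)).hom y
    obtain ⟨b, hb⟩ := V_surjective n (Fin.tail f) w
    obtain ⟨τ, hτ, hz⟩ := exists_triv_of_boundary n (Fin.tail f) z
    let τ₁ : Fin (n + 1) → R := Fin.cons (-∑ i, b i * Fin.tail f i) (f 0 • b)
    have hτ₁ : τ₁ ∈ Triv (n + 1) f := by
      have e : τ₁ = ∑ j : Fin n, b j • (Pi.single j.succ (f 0) - Pi.single 0 (f j.succ)) := by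
        funext k
        refine Fin.cases ?_ (fun k => ?_) k
        · simp [τ₁, Fin.tail, Pi.single_apply, Finset.sum_apply, (Fin.succ_ne_zero _).symm]
        · simp [τ₁, Pi.single_apply, Finset.sum_apply, Fin.succ_inj, mul_comm]
      rw [e]
      exact Submodule.sum_mem _ fun j _ => Submodule.smul_mem _ _ (Submodule.subset_span ⟨j.succ, 0, rfl⟩)
    refine ⟨τ₁ + Fin.cons 0 τ, add_mem hτ₁ (cons_zero_mem_triv f hτ), ?_⟩
    rw [← hid, map_add (V (n + 1) f)]
    change ((mappingCone (KoszulWiebe.mul (f 0) l)).d (-2) (-1)).hom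
      (((mappingCone.inl (KoszulWiebe.mul (f 0) l)).v (-1) (-2) (by norm_num)).hom w +
        ((mappingCone.inr (KoszulWiebe.mul (f 0) l)).f (-2)).hom z) = _
    rw [map_add, ← LinearMap.comp_apply, ← ModuleCat.hom_comp, ← LinearMap.comp_apply,
      ← ModuleCat.hom_comp]
    change ((mappingCone.inl (KoszulWiebe.mul (f 0) l)).v (-1) (-2) (by norm_num) ≫
        (mappingCone (KoszulWiebe.mul (f 0) l)).d (-2) (-1)).hom w +
      ((mappingCone.inr (KoszulWiebe.mul (f 0) l)).f (-2) ≫
        (mappingCone (KoszulWiebe.mul (f 0) l)).d (-2) (-1)).hom z = _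
    rw [mappingCone.inl_v_d (KoszulWiebe.mul (f 0) l) (-1) (-2) 0 (by omega) (by omega),
      mappingCone.inr_f_d]
    simp only [ModuleCat.hom_sub, ModuleCat.hom_comp, LinearMap.sub_apply, LinearMap.comp_apply,
      KoszulWiebe.mul_f_apply, ← hb]
    rw [show ((Koszul.koszul R l).d (-2) (-1)).hom z = _ from hz,
      show ((Koszul.koszul R l).d (-1) 0).hom (V n (Fin.tail f) b) = _ from d_V n (Fin.tail f) b]
    change _ = (((mappingCone.inl (KoszulWiebe.mul (f 0) l)).v 0 (-1) (by norm_num)).hom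
        ((-∑ i, b i * Fin.tail f i) • KoszulWiebe.e0 l) +
      ((mappingCone.inr (KoszulWiebe.mul (f 0) l)).f (-1)).hom (V n (Fin.tail f) (f 0 • b))) +
      (((mappingCone.inl (KoszulWiebe.mul (f 0) l)).v 0 (-1) (by norm_num)).hom ((0 : R) • KoszulWiebe.e0 l) +
      ((mappingCone.inr (KoszulWiebe.mul (f 0) l)).f (-1)).hom (V n (Fin.tail f) τ))
    simp only [map_smul, map_neg, neg_smul, zero_smul, zero_add, map_zero, l]
    abel

/-- A Koszul-regular sequence is `H₁`-regular. -/
theorem isH1Regular {n : ℕ} (f : Fin n → R) (h : LCI.IsKoszulRegularSeq R (List.ofFn f)) :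
    CAlgX.IsH1Regular f := by
  intro a ha
  rw [← toL_eq_ofFn] at h
  have hex := ((Koszul.koszul R (toL n f)).exactAt_iff_isZero_homology (-1)).2 (h (-1) (by norm_num))
  rw [HomologicalComplex.exactAt_iff' _ (-2) (-1) 0 (by simp) (by simp), ShortComplex.moduleCat_exact_iff] at hex
  obtain ⟨y, hy⟩ := hex (V n f a) (by
    change ((Koszul.koszul R (toL n f)).d (-1) 0).hom (V n f a) = 0
    rw [d_V, ha, zero_smul])
  obtain ⟨τ, hτ, h2⟩ := exists_triv_of_boundary n f y
  rw [show a = τ from V_injective n f (hy.symm.trans h2)]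
  exact hτ

/-- The coefficients of a relation lie in the ideal of the sequence. -/
theorem coeff_mem_of_relation {n : ℕ} (f : Fin n → R) (h : LCI.IsKoszulRegularSeq R (List.ofFn f))
    {a : Fin n → R} (ha : ∑ i, a i * f i = 0) (i : Fin n) : a i ∈ Ideal.span (Set.range f) := by
  have h1 := isH1Regular f h a ha
  clear ha
  induction h1 using Submodule.span_induction generalizing i with
  | mem v hv =>
    obtain ⟨p, q, rfl⟩ := hv
    rw [Pi.sub_apply]
    refine sub_mem ?_ ?_ <;>
    · rw [Pi.single_apply]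
      split_ifs
      · exact Ideal.subset_span ⟨_, rfl⟩
      · exact zero_mem _
  | zero => exact zero_mem _
  | add u v _ _ hu hv => exact add_mem (hu i) (hv i)
  | smul c u _ hu => exact Ideal.mul_mem_left _ c (hu i)

/-- A linear form in a Koszul-regular sequence lying in the square of its ideal has coefficients in the ideal. -/
theorem coeff_mem_of_mem_sq {n : ℕ} (f : Fin n → R) (h : LCI.IsKoszulRegularSeq R (List.ofFn f))
    {c : Fin n → R} (hc : ∑ i, c i * f i ∈ Ideal.span (Set.range f) ^ 2) (i : Fin n) :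
    c i ∈ Ideal.span (Set.range f) := by
  set I := Ideal.span (Set.range f) with hI
  have key : ∀ x ∈ I ^ 2, ∃ b : Fin n → R, (∀ i, b i ∈ I) ∧ ∑ i, b i * f i = x := by
    intro x hx
    rw [pow_two, Ideal.mul_comm] at hx
    induction hx using Submodule.mul_induction_on' with
    | mem_mul_mem u hu v hv =>
      obtain ⟨e, he⟩ := (Submodule.mem_span_range_iff_exists_fun R).1 hu
      refine ⟨fun i => v * e i, fun i => Ideal.mul_mem_right _ _ hv, ?_⟩
      rw [← he, Finset.sum_mul]
      refine Finset.sum_congr rfl fun i _ => ?_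
      rw [smul_eq_mul]; ring
    | add x hx y hy ihx ihy =>
      obtain ⟨b, hb, rfl⟩ := ihx
      obtain ⟨b', hb', rfl⟩ := ihy
      exact ⟨b + b', fun i => add_mem (hb i) (hb' i), by simp [add_mul, Finset.sum_add_distrib]⟩
  obtain ⟨b, hb, hbc⟩ := key _ hc
  have h0 := coeff_mem_of_relation f h (a := fun j => c j - b j) (by
    simp only [sub_mul, Finset.sum_sub_distrib, hbc, sub_self]) i
  simpa [← hI] using add_mem h0 (hb i)

end Groth.Agent.KReg44
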