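import Groth.Agent.KReg44.Local
import Groth.Agent.RegLoc.H1Seq
import Groth.Agent.QReg44.FFDescent
import Mathlib.RingTheory.Localization.AsSubring
import Mathlib.RingTheory.LocalRing.Basic

/-!
# Koszul-regular ideals
-/

set_option autoImplicit false

open CategoryTheory Limits

universe u

namespace Groth.Agent.KReg44

variable {R : Type u} [CommRing R]

theorem span_range_eq_ofList {n : ℕ} (f : Fin n → R) : Ideal.span (Set.range f) = Ideal.ofList (List.ofFn f) := by
  rw [Ideal.ofList]; congr 1; ext x; simp [List.mem_ofFn]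

theorem isQuasiRegular {n : ℕ} (f : Fin n → R) (h : LCI.IsKoszulRegularSeq R (List.ofFn f)) :
    CAlgX.IsQuasiRegular f :=
  RegLoc.H1Seq.isQuasiRegular f (isH1Regular f h)

theorem isLocallyQuasiRegular_of_isKoszulRegularIdeal {I : Ideal R} (h : LCI.IsKoszulRegularIdeal I) :
    PP16.IsLocallyQuasiRegular R I := by
  intro P hP hIP
  obtain ⟨g, hg, l, hl, hspan⟩ := h ⟨P, hP⟩ hIP
  refine ⟨g, hg, l.length, fun i => l.get i, ?_, ?_⟩
  · exact isQuasiRegular _ (by rwa [List.ofFn_get])
  · rw [span_range_eq_ofList, List.ofFn_get, hspan]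

/-- Transport along a flat map with the image ideal. -/
theorem exists_map {S : Type u} [CommRing S] (φ : R →+* S) (hφ : φ.Flat) {I : Ideal R}
    (h : ∃ l, LCI.IsKoszulRegularSeq R l ∧ Ideal.ofList l = I) :
    ∃ l, LCI.IsKoszulRegularSeq S l ∧ Ideal.ofList l = I.map φ := by
  obtain ⟨l, hl, rfl⟩ := h
  exact ⟨l.map φ, isKoszulRegularSeq_map φ hφ hl, (Ideal.map_ofList φ l).symm⟩

theorem coeff_of_isQuasiRegular {n : ℕ} {f : Fin n → R} (hf : CAlgX.IsQuasiRegular f) {c : Fin n → R}
    (hc : ∑ j, c j * f j ∈ Ideal.span (Set.range f) ^ 2) (j : Fin n) : c j ∈ Ideal.span (Set.range f) :=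
  QReg.coeff_mem_of_sum_mem_sq hf c hc j

/-- A quasi-regular sequence stays irredundant in every localisation at a prime containing it. -/
theorem irr_map_of_isQuasiRegular {n : ℕ} {f : Fin n → R} (hf : CAlgX.IsQuasiRegular f)
    {Q : Ideal R} [Q.IsPrime] (hQ : Ideal.span (Set.range f) ≤ Q) :
    Irr (List.ofFn fun i => algebraMap R (Localization.AtPrime Q) (f i)) := by
  let S := Localization.AtPrime Q
  let φ := algebraMap R S
  have hJ : Ideal.span (Set.range fun i => φ (f i)) = (Ideal.span (Set.range f)).map φ := by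
    rw [Ideal.map_span, ← Set.range_comp]; rfl
  refine irr_of_coeff _ ?_ fun c hc j => ?_
  · rw [hJ, ← Localization.AtPrime.map_eq_maximalIdeal]
    exact Ideal.map_mono hQ
  obtain ⟨⟨b, hb⟩, hbc⟩ := IsLocalization.exist_integer_multiples Q.primeCompl Finset.univ c
  choose num hnum using fun i => hbc i (Finset.mem_univ i)
  have h0 : φ (∑ i, num i * f i) = 0 := by
    rw [map_sum]
    calc ∑ i, φ (num i * f i) = ∑ i, φ b * (c i * φ (f i)) := Finset.sum_congr rfl fun i _ => by
          rw [map_mul, hnum i, Algebra.smul_def, mul_assoc]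
      _ = 0 := by rw [← Finset.mul_sum, hc, mul_zero]
  obtain ⟨t, ht⟩ := (IsLocalization.map_eq_zero_iff Q.primeCompl S _).1 h0
  have h1 := coeff_of_isQuasiRegular hf (c := fun i => (t : R) * num i) (by
    simp only [mul_assoc, ← Finset.mul_sum, ht]; exact zero_mem _) j
  have h2 : φ ((t : R) * num j) ∈ (Ideal.span (Set.range f)).map φ := Ideal.mem_map_of_mem _ h1
  rw [map_mul, hnum j, Algebra.smul_def, ← mul_assoc, Ideal.unit_mul_mem_iff_mem] at h2
  · rwa [hJ]
  · exact (IsLocalization.map_units S t).mul (IsLocalization.map_units S (⟨b, hb⟩ : Q.primeCompl))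

/-- A locally quasi-regular ideal that is generated by a Koszul-regular sequence in every local ring
is Koszul-regular. -/
theorem isKoszulRegularIdeal_of {I : Ideal R} (hqr : PP16.IsLocallyQuasiRegular R I)
    (h : ∀ P : Ideal R, ∀ _ : P.IsPrime, I ≤ P → ∃ l, LCI.IsKoszulRegularSeq (Localization.AtPrime P) l ∧
      Ideal.ofList l = I.map (algebraMap R (Localization.AtPrime P))) :
    LCI.IsKoszulRegularIdeal I := by
  intro p hIp
  obtain ⟨g, hg, r, f, hf, hspan⟩ := hqr p.asIdeal hIp
  refine ⟨g, hg, List.ofFn f, ?_, hspan.symm.trans (span_range_eq_ofList f)⟩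
  let A := Localization.Away g
  refine isKoszulRegularSeq_of_forall_prime fun Q hQ => ?_
  let S := Localization.AtPrime Q
  have hlist : (List.ofFn f).map (algebraMap A S) = List.ofFn fun i => algebraMap A S (f i) :=
    List.map_ofFn ..
  by_cases hle : Ideal.span (Set.range f) ≤ Q
  swap
  · refine isKoszulRegularSeq_of_eq_top ?_
    obtain ⟨x, hx, hxQ⟩ := SetLike.not_le_iff_exists.1 hle
    rw [← Ideal.map_ofList, ← span_range_eq_ofList]
    exact Ideal.eq_top_of_isUnit_mem _ (Ideal.mem_map_of_mem _ hx)
      (IsLocalization.map_units S (⟨x, hxQ⟩ : Q.primeCompl))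
  let P := Q.comap (algebraMap R A)
  have hIP : I ≤ P := by
    rw [← Ideal.map_le_iff_le_comap, ← hspan]; exact hle
  haveI : IsLocalization.AtPrime S P :=
    IsLocalization.isLocalization_isLocalization_atPrime_isLocalization (Submonoid.powers g) S Q
  let e : Localization.AtPrime P ≃ₐ[R] S := IsLocalization.algEquiv P.primeCompl _ _
  obtain ⟨l, hl, hlI⟩ := exists_map e.toRingEquiv.toRingHom (RingHom.Flat.of_bijective e.bijective)
    (h P inferInstance hIP)
  have hI : Ideal.ofList l = Ideal.ofList (List.ofFn fun i => algebraMap A S (f i)) := by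
    rw [hlI, ← hlist, ← Ideal.map_ofList, ← span_range_eq_ofList, hspan, Ideal.map_map, Ideal.map_map]
    congr 1
    ext x
    exact (e.commutes x).trans (IsScalarTower.algebraMap_apply R A S x)
  rw [hlist]
  refine isKoszulRegularSeq_of_irr hl hI ?_ (irr_map_of_isQuasiRegular hf hle)
  rw [hI, ← hlist, ← Ideal.map_ofList, ← span_range_eq_ofList, ← Localization.AtPrime.map_eq_maximalIdeal]
  exact Ideal.map_mono hle

/-- At every prime containing it a Koszul-regular ideal is generated by a Koszul-regular sequence. -/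
theorem exists_local {I : Ideal R} (h : LCI.IsKoszulRegularIdeal I) (P : Ideal R) (hP : P.IsPrime)
    (hIP : I ≤ P) : ∃ l, LCI.IsKoszulRegularSeq (Localization.AtPrime P) l ∧
      Ideal.ofList l = I.map (algebraMap R (Localization.AtPrime P)) := by
  obtain ⟨g, hg, l, hl, hspan⟩ := h ⟨P, hP⟩ hIP
  let S := Localization.AtPrime P
  let ψ : Localization.Away g →+* S :=
    IsLocalization.Away.lift g (IsLocalization.map_units S (⟨g, hg⟩ : P.primeCompl))
  have hψ : ψ.comp (algebraMap R (Localization.Away g)) = algebraMap R S :=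
    IsLocalization.Away.lift_comp g _
  letI := ψ.toAlgebra
  haveI : IsScalarTower R (Localization.Away g) S := IsScalarTower.of_algebraMap_eq' hψ.symm
  haveI : Module.Flat R S := IsLocalization.flat S P.primeCompl
  have hflat : ψ.Flat := by
    haveI : IsLocalization (Submonoid.map (algebraMap R (Localization.Away g)) P.primeCompl) S :=
      IsLocalization.isLocalization_of_submonoid_le (Localization.Away g) S (Submonoid.powers g) P.primeCompl
        (Submonoid.powers_le.2 hg)
    exact IsLocalization.flat S (Submonoid.map (algebraMap R (Localization.Away g)) P.primeCompl)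
  obtain ⟨l', hl', hl'I⟩ := exists_map ψ hflat ⟨l, hl, hspan.symm.trans rfl |>.trans rfl⟩
  exact ⟨l', hl', by rw [hl'I, Ideal.map_map, hψ]⟩

/-- Koszul-regular ideals descend along faithfully flat ring maps. -/
theorem isKoszulRegularIdeal_of_map {B : Type u} [CommRing B] [Algebra R B] [Module.FaithfullyFlat R B]
    {I : Ideal R} (h : LCI.IsKoszulRegularIdeal (I.map (algebraMap R B))) : LCI.IsKoszulRegularIdeal I := by
  have hqr := QReg44.isLocallyQuasiRegular_of_map (isLocallyQuasiRegular_of_isKoszulRegularIdeal h)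
  refine isKoszulRegularIdeal_of hqr fun P hP hIP => ?_
  obtain ⟨⟨Q, hQ⟩, hQP⟩ := PrimeSpectrum.comap_surjective_of_faithfullyFlat (A := R) (B := B) ⟨P, hP⟩
  have hQP' : Q.comap (algebraMap R B) = P := congrArg PrimeSpectrum.asIdeal hQP
  have hJQ : I.map (algebraMap R B) ≤ Q := Ideal.map_le_iff_le_comap.2 (hQP' ▸ hIP)
  obtain ⟨l, hl, hlI⟩ := exists_local h Q hQ hJQ
  obtain ⟨g, hg, r, f, hf, hspan⟩ := hqr P hIP
  let A := Localization.Away g
  let P' : Ideal A := P.map (algebraMap R A)
  have hdisj : Disjoint (Submonoid.powers g : Set R) P :=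
    (Ideal.disjoint_powers_iff_notMem_of_isPrime g).2 hg
  haveI : P'.IsPrime := IsLocalization.isPrime_of_isPrime_disjoint _ A P hP hdisj
  have hfP : Ideal.span (Set.range f) ≤ P' := hspan ▸ Ideal.map_mono hIP
  let S := Localization.AtPrime P'
  have hcomap : P'.comap (algebraMap R A) = P :=
    IsLocalization.under_map_of_isPrime_disjoint _ A hP hdisj
  haveI hS : IsLocalization.AtPrime S P := by
    have := IsLocalization.isLocalization_isLocalization_atPrime_isLocalization (Submonoid.powers g) S P'
    have hc : (P'.comap (algebraMap R A)).primeCompl = P.primeCompl :=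
      SetLike.ext' (by change ((P'.comap (algebraMap R A) : Ideal R) : Set R)ᶜ = ((P : Set R))ᶜ; rw [hcomap])
    change IsLocalization (P'.comap (algebraMap R A)).primeCompl S at this
    rwa [hc] at this
  let f' : List S := List.ofFn fun i => algebraMap A S (f i)
  have hirr : Irr f' := irr_map_of_isQuasiRegular hf hfP
  have hf'I : Ideal.ofList f' = I.map (algebraMap R S) := by
    rw [show f' = (List.ofFn f).map (algebraMap A S) from (List.map_ofFn ..).symm, ← Ideal.map_ofList,
      ← span_range_eq_ofList, hspan, Ideal.map_map, ← IsScalarTower.algebraMap_eq]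
  let T := Localization.AtPrime Q
  let ψ : S →+* T := IsLocalization.lift (M := P.primeCompl) (g := algebraMap R T) fun y => by
    rw [IsScalarTower.algebraMap_apply R B T]
    exact IsLocalization.map_units T (⟨algebraMap R B y, fun hy => y.2 (hQP' ▸ hy)⟩ : Q.primeCompl)
  have hψ : ψ.comp (algebraMap R S) = algebraMap R T := IsLocalization.lift_comp _
  letI := ψ.toAlgebra
  haveI : IsScalarTower R S T := IsScalarTower.of_algebraMap_eq' hψ.symm
  haveI : Module.Flat R T := Module.Flat.trans R B T
  haveI : Module.Flat S T := (Module.flat_iff_of_isLocalization S P.primeCompl _).2 inferInstance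
  haveI : IsLocalHom (algebraMap S T) := by
    refine ⟨fun x hx => ?_⟩
    obtain ⟨⟨a, s⟩, rfl⟩ := IsLocalization.mk'_surjective P.primeCompl x
    rw [IsLocalization.AtPrime.isUnit_mk'_iff S P a s]
    intro haP
    have h1 : IsUnit (algebraMap R T a) := by
      have h2 : algebraMap S T (IsLocalization.mk' S a s) * algebraMap R T s = algebraMap R T a := by
        rw [IsScalarTower.algebraMap_apply R S T s, IsScalarTower.algebraMap_apply R S T a, ← map_mul,
          IsLocalization.mk'_spec]
      rw [← h2]
      exact hx.mul (by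
        rw [IsScalarTower.algebraMap_apply R S T]
        exact (IsLocalization.map_units S s).map _)
    rw [IsScalarTower.algebraMap_apply R B T, IsLocalization.AtPrime.isUnit_to_map_iff T Q] at h1
    exact h1 (show a ∈ Q.comap (algebraMap R B) from hQP' ▸ haP)
  haveI : Module.FaithfullyFlat S T := Module.FaithfullyFlat.of_flat_of_isLocalHom
  have hirrT : Irr (f'.map (algebraMap S T)) := by
    refine irr_of_irredundant fun pre x post hfx hx => ?_
    obtain ⟨pre₀, tl, hf'eq, rfl, htl⟩ := List.map_eq_append_iff.1 hfx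
    obtain ⟨x₀, post₀, rfl, rfl, rfl⟩ := List.map_eq_cons_iff.1 htl
    refine hirr.irredundant hf'eq ?_
    rw [← Ideal.comap_map_eq_self_of_faithfullyFlat (B := T) (Ideal.ofList (pre₀ ++ post₀)),
      Ideal.mem_comap, Ideal.map_ofList, List.map_append]
    exact hx
  have hT : Ideal.ofList l = Ideal.ofList (f'.map (algebraMap S T)) := by
    rw [← Ideal.map_ofList, hf'I, hlI, Ideal.map_map, Ideal.map_map, ← IsScalarTower.algebraMap_eq,
      ← IsScalarTower.algebraMap_eq]
  have hKR : LCI.IsKoszulRegularSeq S f' := by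
    refine isKoszulRegularSeq_of_map (S := T) (isKoszulRegularSeq_of_irr hl hT ?_ hirrT)
    rw [hlI, ← Localization.AtPrime.map_eq_maximalIdeal]
    exact Ideal.map_mono hJQ
  let e : S ≃ₐ[R] Localization.AtPrime P := IsLocalization.algEquiv P.primeCompl _ _
  obtain ⟨l', hl', hl'I⟩ := exists_map e.toRingEquiv.toRingHom (RingHom.Flat.of_bijective e.bijective)
    ⟨f', hKR, hf'I⟩
  refine ⟨l', hl', ?_⟩
  rw [hl'I, Ideal.map_map]
  congr 1
  ext x
  exact e.commutes x

end Groth.Agent.KReg44
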