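import Groth.Agent.KReg44.Append
import Groth.Agent.SmoothingLib.Vars
import Mathlib.Algebra.MvPolynomial.Equiv
import Mathlib.Algebra.Polynomial.Monic
import Mathlib.RingTheory.Polynomial.Basic

/-!
# `X_i - a_i` is Koszul-regular
-/

set_option autoImplicit false

open CategoryTheory Limits

universe u

namespace Groth.Agent.KReg44

variable {A : Type u} [CommRing A]

theorem isKoszulRegularSeq_nil : LCI.IsKoszulRegularSeq A [] := fun i hi =>
  (HomologicalComplex.exactAt_iff_isZero_homology _ _).1 (HomologicalComplex.exactAt_single_obj _ _ _ i hi)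

theorem isKoszulRegularSeq_singleton {f : A} (h : ∀ x, f * x = 0 → x = 0) :
    LCI.IsKoszulRegularSeq A [f] := by
  intro i hi
  haveI : Subsingleton ((Koszul.koszul A []).homology i) := subsingleton_homology (isKoszulRegularSeq_nil i hi)
  refine (isZero_cons_iff f [] i).mpr ⟨fun x => ⟨0, Subsingleton.elim _ _⟩, fun x hx => ?_⟩
  rcases eq_or_ne (i + 1) 0 with h0 | h0
  · revert x
    rw [h0]
    obtain ⟨π, hπ, hk⟩ := KosCone.Basic.exists_toH0 ([] : List A)
    intro x hx
    obtain ⟨a, rfl⟩ := hπ x
    rw [← map_smul, ← LinearMap.mem_ker, hk, Ideal.ofList_nil, Ideal.mem_bot, smul_eq_mul] at hx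
    rw [h a hx, map_zero]
  · haveI := subsingleton_homology (isKoszulRegularSeq_nil (A := A) _ h0)
    exact Subsingleton.elim _ _

/-- The sequence `X_i - a_i` in the polynomial ring. -/
theorem isKoszulRegularSeq_X_sub_C : ∀ (n : ℕ) (a : Fin n → A),
    LCI.IsKoszulRegularSeq (MvPolynomial (Fin n) A) (List.ofFn fun i => MvPolynomial.X i - MvPolynomial.C (a i)) := by
  intro n
  induction n with
  | zero => intro a; simpa using isKoszulRegularSeq_nil
  | succ n ih =>
    intro a
    let P := MvPolynomial (Fin n) A
    let c : P := MvPolynomial.C (a 0)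
    let φ := Polynomial.evalRingHom c
    let g : List (Polynomial P) :=
      List.ofFn fun i : Fin n => Polynomial.C (MvPolynomial.X i - MvPolynomial.C (a i.succ))
    have hsurj : Function.Surjective φ := fun x => ⟨Polynomial.C x, Polynomial.eval_C⟩
    have hker : RingHom.ker φ = Ideal.ofList [Polynomial.X - Polynomial.C c] := by
      rw [Ideal.ofList_singleton]; exact Polynomial.ker_evalRingHom c
    have h1 : LCI.IsKoszulRegularSeq (Polynomial P) [Polynomial.X - Polynomial.C c] :=
      isKoszulRegularSeq_singleton fun x hx =>
        (Polynomial.monic_X_sub_C c).mul_right_eq_zero_iff.1 hx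
    have h2 := isKoszulRegularSeq_append φ h1 hsurj hker (g := g) (by
      rw [show g.map φ = List.ofFn fun i : Fin n => MvPolynomial.X i - MvPolynomial.C (a i.succ) from by
        rw [List.map_ofFn]; exact congrArg List.ofFn (funext fun i => Polynomial.eval_C)]
      exact ih fun i => a i.succ)
    have h3 := isKoszulRegularSeq_perm (List.perm_append_singleton _ g) h2
    let e := MvPolynomial.finSuccEquiv A n
    have h4 := isKoszulRegularSeq_map e.symm.toRingEquiv.toRingHom (RingHom.Flat.of_bijective e.symm.bijective) h3
    convert h4 using 1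
    rw [List.map_cons, List.map_ofFn, List.ofFn_succ]
    congr 1
    · apply e.injective
      rw [show e (e.symm.toRingEquiv.toRingHom (Polynomial.X - Polynomial.C c)) = _ from e.apply_symm_apply _,
        map_sub, MvPolynomial.finSuccEquiv_X_zero]
      simp [e, c, MvPolynomial.finSuccEquiv_apply]
    · refine congrArg List.ofFn (funext fun i => ?_)
      apply e.injective
      rw [Function.comp_apply, show e (e.symm.toRingEquiv.toRingHom _) = _ from e.apply_symm_apply _,
        map_sub, MvPolynomial.finSuccEquiv_X_succ, map_sub]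
      simp [e, MvPolynomial.finSuccEquiv_apply]

end Groth.Agent.KReg44
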