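import Groth.Agent.KReg44.Append
import Groth.Agent.KReg44.Vars
import Mathlib.RingTheory.Regular.RegularSequence

/-!
# Regular sequences are Koszul-regular
-/

set_option autoImplicit false

universe u

open RingTheory.Sequence
open scoped Pointwise

namespace Groth.Agent.KReg44

theorem isKoszulRegularSeq_of_isWeaklyRegular : ∀ (n : ℕ) {R : Type u} [CommRing R] (rs : List R),
    rs.length = n → IsWeaklyRegular R rs → LCI.IsKoszulRegularSeq R rs := by
  intro n
  induction n with
  | zero =>
    intro R _ rs hn _
    rw [List.eq_nil_of_length_eq_zero hn]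
    exact isKoszulRegularSeq_nil
  | succ n ih =>
    intro R _ rs hn hreg
    obtain ⟨r, rs, rfl⟩ := List.exists_cons_of_length_eq_add_one hn
    obtain ⟨h1, h2⟩ := (isWeaklyRegular_cons_iff R r rs).1 hreg
    let q := Ideal.Quotient.mk (Ideal.span {r})
    have he : (r • ⊤ : Submodule R R) = Ideal.span {r} := by
      ext x
      rw [Submodule.mem_smul_pointwise_iff_exists, Ideal.mem_span_singleton]
      constructor
      · rintro ⟨y, -, rfl⟩; exact ⟨y, rfl⟩
      · rintro ⟨y, rfl⟩; exact ⟨y, trivial, rfl⟩
    let e : QuotSMulTop r R ≃ₗ[R] R ⧸ Ideal.span {r} := Submodule.quotEquivOfEq _ _ he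
    have h3 : IsWeaklyRegular (R ⧸ Ideal.span {r}) (rs.map q) :=
      (isWeaklyRegular_map_algebraMap_iff (R ⧸ Ideal.span {r}) (R ⧸ Ideal.span {r}) rs).2
        ((e.isWeaklyRegular_congr rs).1 h2)
    have h4 := isKoszulRegularSeq_append q (isKoszulRegularSeq_singleton fun x hx => h1 (by simpa using hx))
      Ideal.Quotient.mk_surjective (by rw [Ideal.mk_ker, Ideal.ofList_singleton])
      (ih (rs.map q) (by simpa using hn) h3)
    exact isKoszulRegularSeq_perm (List.perm_append_singleton r rs) h4

end Groth.Agent.KReg44
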