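import Groth.Agent.KReg44.Basic
import Mathlib.Algebra.Category.ModuleCat.Abelian
import Mathlib.Algebra.Homology.DerivedCategory.HomologySequence
import Mathlib.Algebra.Homology.QuasiIso

/-!
# Concatenation of Koszul-regular sequences

If `f` is Koszul-regular and generates the kernel of a surjection `A → B`, then `K_A(g ++ f)` is
quasi-isomorphic to `K_B` of the image of `g`.
-/

open CategoryTheory Limits CochainComplex

universe u

attribute [local instance] HasDerivedCategory.standard

namespace Groth.Agent.KReg44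

variable {A B : Type u} [CommRing A] [CommRing B] (φ : A →+* B)

/-- Restriction of scalars on complexes. -/
noncomputable abbrev res : CochainComplex (ModuleCat.{u} B) ℤ ⥤ CochainComplex (ModuleCat.{u} A) ℤ :=
  (ModuleCat.restrictScalars.{u} φ).mapHomologicalComplex (ComplexShape.up ℤ)

theorem res_map_smul_id (a : A) (K : CochainComplex (ModuleCat.{u} B) ℤ) :
    (res φ).map (φ a • 𝟙 K) = a • 𝟙 ((res φ).obj K) := by
  ext n x
  rfl

theorem exists_toRes {f : List A} (hf : LCI.IsKoszulRegularSeq A f) (hφ : Function.Surjective φ)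
    (hker : RingHom.ker φ = Ideal.ofList f) :
    ∃ q : Koszul.koszul A f ⟶ (res φ).obj (Koszul.koszul B []), QuasiIso q := by
  obtain ⟨π, hπ, hπk⟩ := KosCone.Basic.exists_toH0 f
  let K := Koszul.koszul A f
  let M := (ModuleCat.restrictScalars.{u} φ).obj (ModuleCat.of B B)
  let ψ : A →ₗ[A] M :=
    { toFun := φ
      map_add' := map_add φ
      map_smul' := fun a b => by
        change φ (a * b) = φ a * φ b
        exact map_mul φ a b }
  have hψk : LinearMap.ker ψ = Ideal.ofList f := by
    rw [← hker]; rfl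
  let e : K.homology 0 ≅ M :=
    ((π.quotKerEquivOfSurjective hπ).symm ≪≫ₗ Submodule.quotEquivOfEq _ _ (hπk.trans hψk.symm) ≪≫ₗ
      ψ.quotKerEquivOfSurjective hφ).toModuleIso
  have hd : K.d 0 1 = 0 := (KosCone.Basic.isZero_X f 1 (by omega)).eq_of_tgt _ _
  haveI := K.isIso_homologyι 0 1 (by simp) hd
  let φ0 : K.X 0 ⟶ M := K.pOpcycles 0 ≫ inv (K.homologyι 0) ≫ e.hom
  let S := (HomologicalComplex.single (ModuleCat.{u} A) (ComplexShape.up ℤ) 0).obj M
  let q : K ⟶ S := HomologicalComplex.mkHomToSingle φ0 (fun i hi => by simp [φ0])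
  haveI : QuasiIso q := by
    refine ⟨fun i => ?_⟩
    rw [quasiIsoAt_iff_isIso_homologyMap]
    by_cases hi : i = 0
    · subst hi
      haveI := S.isIso_homologyι 0 1 (by simp) ((HomologicalComplex.isZero_single_obj_X _ 0 M 1 (by simp)).eq_of_tgt _ _)
      have h2 : HomologicalComplex.opcyclesMap q 0 = inv (K.homologyι 0) ≫ e.hom ≫
          (HomologicalComplex.singleObjXSelf (ComplexShape.up ℤ) 0 M).inv ≫ S.pOpcycles 0 := by
        rw [← cancel_epi (K.pOpcycles 0), HomologicalComplex.p_opcyclesMap]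
        simp [q, φ0, S]
      haveI : IsIso (S.pOpcycles 0) :=
        S.isIso_pOpcycles (-1) 0 (by simp) ((HomologicalComplex.isZero_single_obj_X _ 0 M (-1) (by simp)).eq_of_src _ _)
      haveI : IsIso (HomologicalComplex.opcyclesMap q 0) := by rw [h2]; infer_instance
      have h3 : HomologicalComplex.homologyMap q 0 =
          K.homologyι 0 ≫ HomologicalComplex.opcyclesMap q 0 ≫ inv (S.homologyι 0) := by
        rw [← Category.assoc, IsIso.eq_comp_inv, HomologicalComplex.homologyι_naturality]
      rw [h3]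
      infer_instance
    · exact ⟨0, (hf i hi).eq_of_src _ _,
        (HomologicalComplex.exactAt_iff_isZero_homology _ _).1
          (HomologicalComplex.exactAt_single_obj _ 0 M i hi) |>.eq_of_src _ _⟩
  exact ⟨q ≫ ((HomologicalComplex.singleMapHomologicalComplex (ModuleCat.restrictScalars.{u} φ)
    (ComplexShape.up ℤ) 0).app (ModuleCat.of B B)).inv, inferInstance⟩

theorem quasiIso_coneMap {K L : CochainComplex (ModuleCat.{u} A) ℤ} (φ₁ : K ⟶ K) (φ₂ : L ⟶ L)
    (q : K ⟶ L) [QuasiIso q] (comm : φ₁ ≫ q = q ≫ φ₂) :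
    QuasiIso (mappingCone.map φ₁ φ₂ q q comm) := by
  rw [← DerivedCategory.isIso_Q_map_iff_quasiIso]
  have hq : IsIso (DerivedCategory.Q.map q) :=
    (DerivedCategory.isIso_Q_map_iff_quasiIso _ q).2 inferInstance
  exact Pretriangulated.isIso₃_of_isIso₁₂
    (DerivedCategory.Q.mapTriangle.map (mappingCone.triangleMap φ₁ φ₂ q q comm))
    (DerivedCategory.mappingCone_triangle_distinguished φ₁)
    (DerivedCategory.mappingCone_triangle_distinguished φ₂) hq hq

theorem exists_quasiIso_append {f : List A} (hf : LCI.IsKoszulRegularSeq A f)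
    (hφ : Function.Surjective φ) (hker : RingHom.ker φ = Ideal.ofList f) :
    ∀ g : List A, ∃ q : Koszul.koszul A (g ++ f) ⟶ (res φ).obj (Koszul.koszul B (g.map φ)), QuasiIso q
  | [] => exists_toRes φ hf hφ hker
  | a :: g => by
    obtain ⟨q, hq⟩ := exists_quasiIso_append hf hφ hker g
    have comm : (a • 𝟙 (Koszul.koszul A (g ++ f))) ≫ q = q ≫ (res φ).map (φ a • 𝟙 (Koszul.koszul B (g.map φ))) := by
      rw [res_map_smul_id]; simp
    have key := quasiIso_coneMap _ _ q comm
    haveI := key
    refine ⟨mappingCone.map _ _ q q comm ≫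
      (mappingCone.mapHomologicalComplexIso (φ a • 𝟙 (Koszul.koszul B (g.map φ)))
        (ModuleCat.restrictScalars.{u} φ)).inv, ?_⟩
    exact quasiIso_comp (hφ := key) _ _

/-- Concatenation: `f` Koszul-regular in `A`, `g` Koszul-regular in `A/(f)`. -/
theorem isKoszulRegularSeq_append {f g : List A} (hf : LCI.IsKoszulRegularSeq A f)
    (hφ : Function.Surjective φ) (hker : RingHom.ker φ = Ideal.ofList f)
    (hg : LCI.IsKoszulRegularSeq B (g.map φ)) : LCI.IsKoszulRegularSeq A (g ++ f) := by
  obtain ⟨q, hq⟩ := exists_quasiIso_append φ hf hφ hker g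
  intro i hi
  have h1 := ((Koszul.koszul B (g.map φ)).exactAt_iff_isZero_homology i).2 (hg i hi)
  have h2 : ((res φ).obj (Koszul.koszul B (g.map φ))).ExactAt i := h1.map (ModuleCat.restrictScalars.{u} φ)
  have h3 := ((res φ).obj (Koszul.koszul B (g.map φ))).exactAt_iff_isZero_homology i |>.1 h2
  exact h3.of_iso (asIso (HomologicalComplex.homologyMap q i))

/-- Converse of concatenation. -/
theorem isKoszulRegularSeq_of_append {f g : List A} (hf : LCI.IsKoszulRegularSeq A f)
    (hφ : Function.Surjective φ) (hker : RingHom.ker φ = Ideal.ofList f)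
    (hgf : LCI.IsKoszulRegularSeq A (g ++ f)) : LCI.IsKoszulRegularSeq B (g.map φ) := by
  obtain ⟨q, hq⟩ := exists_quasiIso_append φ hf hφ hker g
  intro i hi
  refine ((Koszul.koszul B (g.map φ)).exactAt_iff_isZero_homology i).1 ?_
  have h3 := (hgf i hi).of_iso (asIso (HomologicalComplex.homologyMap q i)).symm
  have h2 := ((res φ).obj (Koszul.koszul B (g.map φ))).exactAt_iff_isZero_homology i |>.2 h3
  exact (ShortComplex.exact_map_iff_of_faithful ((Koszul.koszul B (g.map φ)).sc i)
    (ModuleCat.restrictScalars.{u} φ)).1 h2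

end Groth.Agent.KReg44
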