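import Groth.Agent.KReg44.Syzygy
import Mathlib.RingTheory.Nakayama
import Mathlib.RingTheory.Regular.RegularSequence

/-!
# Koszul-regular sequences in local rings: exchange of generators
-/

open CategoryTheory Limits

universe u

namespace Groth.Agent.KReg44

variable {R : Type u} [CommRing R]

/-- Every term lies outside the ideal of the other terms plus `m I`. -/
def Irr [IsLocalRing R] (l : List R) : Prop :=
  ∀ (pre : List R) (x : R) (post : List R), l = pre ++ x :: post →
    x ∉ Ideal.ofList (pre ++ post) ⊔ IsLocalRing.maximalIdeal R * Ideal.ofList l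

theorem exists_unit_or_mem [IsLocalRing R] (J : Ideal R) : ∀ (rest : List R) (x : R),
    x ∈ Ideal.ofList rest ⊔ J →
      (∃ (s t : List R) (r u a : R), rest = s ++ r :: t ∧ IsUnit u ∧ a ∈ Ideal.ofList (s ++ t) ⊔ J ∧
        x = u * r + a) ∨ x ∈ IsLocalRing.maximalIdeal R * Ideal.ofList rest ⊔ J
  | [], x, hx => Or.inr (by simpa using hx)
  | r :: rest, x, hx => by
    rw [Ideal.ofList_cons, sup_assoc] at hx
    obtain ⟨b, hb, w, hw, rfl⟩ := Submodule.mem_sup.1 hx
    obtain ⟨c, rfl⟩ := Ideal.mem_span_singleton'.1 hb
    by_cases hc : IsUnit c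
    · exact Or.inl ⟨[], rest, r, c, w, rfl, hc, hw, rfl⟩
    · rcases exists_unit_or_mem J rest w hw with ⟨s, t, r', u, a, rfl, hu, ha, rfl⟩ | h
      · refine Or.inl ⟨r :: s, t, r', u, c * r + a, rfl, hu, ?_, by ring⟩
        rw [List.cons_append, Ideal.ofList_cons, sup_assoc]
        exact Submodule.add_mem_sup (Ideal.mul_mem_left _ _ (Ideal.mem_span_singleton_self r)) ha
      · refine Or.inr ?_
        have h1 : c * r ∈ IsLocalRing.maximalIdeal R * Ideal.ofList (r :: rest) :=
          Ideal.mul_mem_mul ((IsLocalRing.mem_maximalIdeal c).2 hc)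
            (Ideal.subset_span List.mem_cons_self)
        refine add_mem (Ideal.mem_sup_left h1)
          ((sup_le_sup_right (Ideal.mul_mono_right ?_) J) h)
        rw [Ideal.ofList_cons]; exact le_sup_right

theorem ofList_mono {l l' : List R} (h : ∀ x ∈ l, x ∈ l') : Ideal.ofList l ≤ Ideal.ofList l' :=
  Ideal.span_mono h

theorem ofList_perm {l l' : List R} (h : List.Perm l l') : Ideal.ofList l = Ideal.ofList l' :=
  le_antisymm (ofList_mono fun _ hx => h.subset hx) (ofList_mono fun _ hx => h.symm.subset hx)

/-- The exchange lemma. -/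
theorem exchange [IsLocalRing R] {h f : List R} (hspan : Ideal.ofList h = Ideal.ofList f) (hf : Irr f) :
    ∀ (pre post : List R), f = pre ++ post → ∃ rest : List R,
      rest.length + pre.length = h.length ∧ Ideal.ofList (rest ++ pre) = Ideal.ofList f ∧
        (LCI.IsKoszulRegularSeq R h → LCI.IsKoszulRegularSeq R (rest ++ pre)) := by
  intro pre
  induction pre using List.reverseRecOn with
  | nil => exact fun post _ => ⟨h, by simp, by simpa using hspan, fun H => by simpa using H⟩
  | append_singleton pre x ih =>
    intro post hpost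
    rw [List.append_assoc, List.singleton_append] at hpost
    obtain ⟨rest, hlen, hsp, hreg⟩ := ih (x :: post) hpost
    have hx : x ∈ Ideal.ofList rest ⊔ Ideal.ofList pre := by
      rw [← Ideal.ofList_append, hsp]
      exact Ideal.subset_span (show x ∈ f by simp [hpost])
    rcases exists_unit_or_mem _ rest x hx with ⟨s, t, r, u, a, hrest, hu, ha, rfl⟩ | h1
    · subst hrest
      rw [← Ideal.ofList_append] at ha
      have hp : List.Perm ((s ++ r :: t) ++ pre) (r :: ((s ++ t) ++ pre)) :=
        (List.perm_middle (a := r) (l₁ := s) (l₂ := t)).append_right pre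
      have hp2 : List.Perm ((u * r + a) :: ((s ++ t) ++ pre)) ((s ++ t) ++ (pre ++ [u * r + a])) := by
        rw [← List.append_assoc (s ++ t)]
        exact (List.perm_append_singleton _ _).symm
      refine ⟨s ++ t, ?_, ?_, fun H => ?_⟩
      · simp only [List.length_append, List.length_cons, List.length_nil] at hlen ⊢
        omega
      · rw [← ofList_perm hp2, ← hsp, ofList_perm hp, Ideal.ofList_cons, Ideal.ofList_cons]
        refine le_antisymm (sup_le ?_ le_sup_right) (sup_le ?_ le_sup_right) <;>
          rw [Ideal.span_singleton_le_iff_mem]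
        · exact Submodule.add_mem_sup (Ideal.mul_mem_left _ _ (Ideal.mem_span_singleton_self r)) ha
        · rw [← Ideal.unit_mul_mem_iff_mem _ hu]
          have h := Submodule.add_mem_sup (Ideal.mem_span_singleton_self (u * r + a)) (neg_mem ha)
          rwa [add_neg_cancel_right] at h
      · exact isKoszulRegularSeq_perm hp2
          (isKoszulRegularSeq_head (isKoszulRegularSeq_perm hp (hreg H)) hu ha)
    · refine absurd ?_ (hf pre x post hpost)
      have hle : IsLocalRing.maximalIdeal R * Ideal.ofList rest ⊔ Ideal.ofList pre ≤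
          Ideal.ofList (pre ++ post) ⊔ IsLocalRing.maximalIdeal R * Ideal.ofList f := by
        refine sup_le (le_sup_of_le_right (Ideal.mul_mono_right ?_))
          (le_sup_of_le_left (ofList_mono fun y hy => List.mem_append_left _ hy))
        rw [← hsp, Ideal.ofList_append]; exact le_sup_left
      exact hle h1

theorem length_le_of_irr [IsLocalRing R] {h f : List R} (hspan : Ideal.ofList h = Ideal.ofList f)
    (hf : Irr f) : f.length ≤ h.length := by
  obtain ⟨rest, hlen, -⟩ := exchange hspan hf f [] (List.append_nil f).symm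
  omega

/-- A term of a finite sequence as a combination avoiding it. -/
theorem exists_coeff_of_mem {n : ℕ} (f : Fin n → R) (i : Fin n) {pre post : List R}
    (hl : List.ofFn f = pre ++ f i :: post) (hi : pre.length = i) {x : R}
    (hx : x ∈ Ideal.ofList (pre ++ post)) : ∃ c : Fin n → R, c i = 0 ∧ ∑ j, c j * f j = x := by
  classical
  induction hx using Submodule.span_induction with
  | mem y hy =>
    change y ∈ pre ++ post at hy
    obtain ⟨j, hj, rfl⟩ : ∃ j, j ≠ i ∧ f j = y := by
      rw [List.mem_append] at hy
      rcases hy with hy | hy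
      · obtain ⟨k, hk, rfl⟩ := List.getElem_of_mem hy
        have hkn : k < n := by omega
        refine ⟨⟨k, hkn⟩, fun h => by simp [Fin.ext_iff] at h; omega, ?_⟩
        have h1 : (List.ofFn f)[k]'(by simp; omega) = f ⟨k, hkn⟩ := List.getElem_ofFn ..
        rw [← h1]
        simp only [hl, List.getElem_append_left hk]
      · obtain ⟨k, hk, rfl⟩ := List.getElem_of_mem hy
        have hlen := congrArg List.length hl
        simp only [List.length_ofFn, List.length_append, List.length_cons] at hlen
        have hkn : pre.length + 1 + k < n := by omega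
        refine ⟨⟨pre.length + 1 + k, hkn⟩, fun h => by simp [Fin.ext_iff] at h; omega, ?_⟩
        have h1 : (List.ofFn f)[pre.length + 1 + k]'(by simp; omega) = f ⟨pre.length + 1 + k, hkn⟩ :=
          List.getElem_ofFn ..
        rw [← h1]
        simp only [hl]
        rw [List.getElem_append_right (by omega)]
        simp [show pre.length + 1 + k - pre.length = k + 1 by omega]
    exact ⟨Pi.single j 1, Pi.single_eq_of_ne (Ne.symm hj) 1, by simp [Pi.single_apply]⟩
  | zero => exact ⟨0, rfl, by simp⟩
  | add a b _ _ ha hb =>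
    obtain ⟨c, hc, rfl⟩ := ha
    obtain ⟨d, hd, rfl⟩ := hb
    exact ⟨c + d, by simp [hc, hd], by simp [add_mul, Finset.sum_add_distrib]⟩
  | smul r a _ ha =>
    obtain ⟨c, hc, rfl⟩ := ha
    exact ⟨r • c, by simp [hc], by simp [Finset.mul_sum, mul_assoc]⟩

/-- Relations with coefficients in the ideal force irredundance. -/
theorem irr_of_coeff [IsLocalRing R] {n : ℕ} (f : Fin n → R)
    (htop : Ideal.span (Set.range f) ≤ IsLocalRing.maximalIdeal R)
    (h : ∀ c : Fin n → R, ∑ j, c j * f j = 0 → ∀ j, c j ∈ Ideal.span (Set.range f)) :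
    Irr (List.ofFn f) := by
  intro pre x post hl hx
  have hlen := congrArg List.length hl
  simp only [List.length_ofFn, List.length_append, List.length_cons] at hlen
  let i : Fin n := ⟨pre.length, by omega⟩
  have hxi : f i = x := by
    have h1 : (List.ofFn f)[pre.length]'(by simp; omega) = f i := List.getElem_ofFn ..
    rw [← h1]
    simp [hl]
  subst hxi
  obtain ⟨y, hy, z, hz, hyz⟩ := Submodule.mem_sup.1 hx
  obtain ⟨c, hci, rfl⟩ := exists_coeff_of_mem f i hl rfl hy
  have hI : Ideal.ofList (List.ofFn f) = Ideal.span (Set.range f) := by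
    rw [Ideal.ofList]; congr 1; ext a; simp [List.mem_ofFn]
  obtain ⟨d, hd, rfl⟩ : ∃ d : Fin n → R, (∀ j, d j ∈ IsLocalRing.maximalIdeal R) ∧ ∑ j, d j * f j = z := by
    rw [hI, Ideal.mul_comm] at hz
    clear hyz hx
    induction hz using Submodule.mul_induction_on' with
    | mem_mul_mem a ha b hb =>
      obtain ⟨e, he⟩ := (Submodule.mem_span_range_iff_exists_fun R).1 ha
      refine ⟨fun j => b * e j, fun j => Ideal.mul_mem_right _ _ hb, ?_⟩
      rw [← he, Finset.sum_mul]
      refine Finset.sum_congr rfl fun j _ => ?_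
      rw [smul_eq_mul]; ring
    | add a _ b _ iha ihb =>
      obtain ⟨e, he, rfl⟩ := iha
      obtain ⟨e', he', rfl⟩ := ihb
      exact ⟨e + e', fun j => add_mem (he j) (he' j), by simp [add_mul, Finset.sum_add_distrib]⟩
  have h1 := h (fun j => c j + d j - (Pi.single i (1 : R) : Fin n → R) j) (by
    simp [sub_mul, add_mul, Finset.sum_add_distrib, Finset.sum_sub_distrib, Pi.single_apply, hyz]) i
  simp only [hci, zero_add, Pi.single_eq_same] at h1
  refine (IsLocalRing.maximalIdeal.isMaximal R).ne_top ((Ideal.eq_top_iff_one _).2 ?_)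
  simpa using sub_mem (hd i) (htop h1)

theorem irr_of_regular [IsLocalRing R] {l : List R} (hl : LCI.IsKoszulRegularSeq R l)
    (htop : Ideal.ofList l ≤ IsLocalRing.maximalIdeal R) : Irr l := by
  obtain ⟨n, f, rfl⟩ : ∃ (n : ℕ) (f : Fin n → R), l = List.ofFn f := ⟨_, _, (List.ofFn_get l).symm⟩
  refine irr_of_coeff f ((Ideal.span_le.2 ?_).trans htop) fun c hc j => coeff_mem_of_relation f hl hc j
  rintro _ ⟨j, rfl⟩
  exact Ideal.subset_span (by simp [List.mem_ofFn])

/-- A Nakayama criterion. -/
theorem irr_of_irredundant [IsLocalRing R] {f : List R}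
    (h : ∀ pre x post, f = pre ++ x :: post → x ∉ Ideal.ofList (pre ++ post)) : Irr f := by
  intro pre x post hf hx
  refine h pre x post hf ?_
  have hle : Ideal.ofList f ≤ Ideal.ofList (pre ++ post) ⊔ IsLocalRing.maximalIdeal R • Ideal.ofList f := by
    refine Ideal.span_le.2 fun y hy => ?_
    change y ∈ f at hy
    rw [hf, List.mem_append, List.mem_cons] at hy
    rcases hy with hy | rfl | hy
    · exact Ideal.mem_sup_left (Ideal.subset_span (List.mem_append_left _ hy))
    · exact hx
    · exact Ideal.mem_sup_left (Ideal.subset_span (List.mem_append_right _ hy))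
  exact Submodule.le_of_le_smul_of_le_jacobson_bot (Submodule.fg_span f.finite_toSet)
    (IsLocalRing.maximalIdeal_le_jacobson ⊥) hle (Ideal.subset_span (show x ∈ f by simp [hf]))

theorem Irr.irredundant [IsLocalRing R] {f : List R} (h : Irr f) {pre : List R} {x : R} {post : List R}
    (hf : f = pre ++ x :: post) : x ∉ Ideal.ofList (pre ++ post) :=
  fun hx => h pre x post hf (Ideal.mem_sup_left hx)

/-- In a local ring every irredundant generating sequence of a Koszul-regular ideal is Koszul-regular. -/
theorem isKoszulRegularSeq_of_irr [IsLocalRing R] {l f : List R} (hl : LCI.IsKoszulRegularSeq R l)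
    (hspan : Ideal.ofList l = Ideal.ofList f) (htop : Ideal.ofList l ≤ IsLocalRing.maximalIdeal R)
    (hf : Irr f) : LCI.IsKoszulRegularSeq R f := by
  obtain ⟨rest, hlen, -, hreg⟩ := exchange hspan hf f [] (List.append_nil f).symm
  have := length_le_of_irr hspan.symm (irr_of_regular hl htop)
  obtain rfl : rest = [] := List.eq_nil_of_length_eq_zero (by omega)
  simpa using hreg hl

/-- Koszul homology of a sequence generating the unit ideal vanishes. -/
theorem isKoszulRegularSeq_of_eq_top {l : List R} (h : Ideal.ofList l = ⊤) :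
    LCI.IsKoszulRegularSeq R l := by
  intro i _
  refine @ModuleCat.isZero_of_subsingleton _ _ _ ⟨fun y z => ?_⟩
  rw [← one_smul R y, ← one_smul R z, smul_homology_eq_zero (h ▸ Submodule.mem_top) i y,
    smul_homology_eq_zero (h ▸ Submodule.mem_top) i z]

end Groth.Agent.KReg44
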