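import Groth.Agent.KReg44.Pi
import Mathlib.RingTheory.Etale.Basic
import Mathlib.RingTheory.Ideal.IdempotentFG
import Mathlib.RingTheory.Spectrum.Prime.Chevalley
import Mathlib.RingTheory.Flat.FaithfullyFlat.Algebra
import Mathlib.RingTheory.RingHom.FinitePresentation

/-!
# Koszul-regular ideals along étale maps with a section
-/

set_option autoImplicit false

universe u

namespace Groth.Agent.KReg44

variable {D C : Type u} [CommRing D] [CommRing C]

/-- An ideal generated by a Koszul-regular sequence is Koszul-regular. -/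
theorem isKoszulRegularIdeal_of_seq {l : List D} (h : LCI.IsKoszulRegularSeq D l) :
    LCI.IsKoszulRegularIdeal (Ideal.ofList l) := fun p _ =>
  ⟨1, fun h1 => p.isPrime.ne_top ((Ideal.eq_top_iff_one _).2 h1), l.map (algebraMap D _),
    isKoszulRegularSeq_map _ (RingHom.flat_algebraMap_iff.2 (IsLocalization.flat _ (Submonoid.powers (1 : D)))) h,
    Ideal.map_ofList _ _⟩

/-- A chart in a chart. -/
theorem exists_away_of_away {I : Ideal D} {g : D} (p : PrimeSpectrum D) (hIp : I ≤ p.asIdeal)
    (hg : g ∉ p.asIdeal) (h : LCI.IsKoszulRegularIdeal (I.map (algebraMap D (Localization.Away g)))) :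
    ∃ G ∉ p.asIdeal, ∃ l, LCI.IsKoszulRegularSeq (Localization.Away G) l ∧
      I.map (algebraMap D (Localization.Away G)) = Ideal.ofList l := by
  let A := Localization.Away g
  have hdisj : Disjoint (Submonoid.powers g : Set D) p.asIdeal :=
    (Ideal.disjoint_powers_iff_notMem_of_isPrime g).2 hg
  haveI hq : (p.asIdeal.map (algebraMap D A)).IsPrime :=
    IsLocalization.isPrime_of_isPrime_disjoint _ A _ p.isPrime hdisj
  have hqc : (p.asIdeal.map (algebraMap D A)).comap (algebraMap D A) = p.asIdeal :=
    IsLocalization.under_map_of_isPrime_disjoint _ A p.isPrime hdisj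
  obtain ⟨g', hg', l, hl, hspan⟩ := h ⟨_, hq⟩ (Ideal.map_mono hIp)
  obtain ⟨⟨a, s⟩, ha⟩ := IsLocalization.surj (Submonoid.powers g) g'
  have hau : Associated g' (algebraMap D A a) :=
    ⟨(IsLocalization.map_units A s).unit, ha⟩
  have hap : a ∉ p.asIdeal := fun h1 => hg' (by
    change g' ∈ p.asIdeal.map (algebraMap D A)
    rw [← Ideal.mul_unit_mem_iff_mem _ (IsLocalization.map_units A s), ha]
    exact Ideal.mem_map_of_mem _ h1)
  let T := Localization.Away g'
  haveI : IsLocalization.Away (algebraMap D A a) T := IsLocalization.Away.of_associated hau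
  haveI : IsLocalization.Away (g * a) T := IsLocalization.Away.mul' A T g a
  let ε : T ≃ₐ[D] Localization.Away (g * a) := IsLocalization.algEquiv (Submonoid.powers (g * a)) _ _
  obtain ⟨l', hl', hl'I⟩ := exists_map ε.toRingEquiv.toRingHom (RingHom.Flat.of_bijective ε.bijective)
    ⟨l, hl, hspan.symm⟩
  refine ⟨g * a, p.isPrime.mul_notMem hg hap, l', hl', ?_⟩
  refine (hl'I.trans ?_).symm
  rw [Ideal.map_map, Ideal.map_map]
  congr 1
  refine RingHom.ext fun x => ?_
  exact ε.commutes x

variable [Algebra D C] (J : Ideal C)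

/-- A formally unramified algebra with surjective composite: the kernel is the image up to squares. -/
theorem le_map_sup_sq [Algebra.FormallyUnramified D C]
    (hs : Function.Surjective ((Ideal.Quotient.mk J).comp (algebraMap D C))) :
    J ≤ (J.comap (algebraMap D C)).map (algebraMap D C) ⊔ J ^ 2 := by
  let K := (J.comap (algebraMap D C)).map (algebraMap D C) ⊔ J ^ 2
  choose d hd using fun c : C => hs (Ideal.Quotient.mk J c)
  have hd' : ∀ c, c - algebraMap D C (d c) ∈ J := fun c => Ideal.Quotient.eq.1 (hd c).symm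
  let q := Ideal.Quotient.mk K
  -- any choice of lift gives the same class
  have huniq : ∀ (c : C) (e : D), c - algebraMap D C e ∈ J → q (algebraMap D C e) = q (algebraMap D C (d c)) :=
    fun c e he => Ideal.Quotient.eq.2 (Ideal.mem_sup_left (by
      rw [← map_sub]
      refine Ideal.mem_map_of_mem _ ?_
      rw [Ideal.mem_comap, map_sub]
      have := sub_mem (hd' c) he
      rwa [sub_sub_sub_cancel_left] at this))
  let δ₀ : C → C ⧸ K := fun c => q (c - algebraMap D C (d c))
  have hadd : ∀ a b, δ₀ (a + b) = δ₀ a + δ₀ b := fun a b => by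
    have h1 := huniq (a + b) (d a + d b) (by
      rw [map_add, add_sub_add_comm]; exact add_mem (hd' a) (hd' b))
    simp only [δ₀, map_sub, map_add] at h1 ⊢
    rw [← h1]; ring
  have hmul : ∀ a b, δ₀ (a * b) = q a * δ₀ b + q b * δ₀ a := fun a b => by
    have h2 : (a - algebraMap D C (d a)) * (b - algebraMap D C (d b)) ∈ J ^ 2 := by
      rw [pow_two]; exact Ideal.mul_mem_mul (hd' a) (hd' b)
    have h3 : q ((a - algebraMap D C (d a)) * (b - algebraMap D C (d b))) = 0 :=
      Ideal.Quotient.eq_zero_iff_mem.2 (Ideal.mem_sup_right h2)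
    have h1 := huniq (a * b) (d a * d b) (by
      rw [map_mul, show a * b - algebraMap D C (d a) * algebraMap D C (d b) =
        a * (b - algebraMap D C (d b)) + algebraMap D C (d b) * (a - algebraMap D C (d a)) by ring]
      exact add_mem (Ideal.mul_mem_left _ _ (hd' b)) (Ideal.mul_mem_left _ _ (hd' a)))
    simp only [δ₀, map_sub, map_mul] at h1 h3 ⊢
    rw [← h1]
    linear_combination -h3
  have halg : ∀ r : D, δ₀ (algebraMap D C r) = 0 := fun r => by
    have h1 := huniq (algebraMap D C r) r (by simp)
    simp only [δ₀, map_sub, ← h1, sub_self]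
  let δ : Derivation D C (C ⧸ K) := Derivation.mk'
    { toFun := δ₀
      map_add' := hadd
      map_smul' := fun r c => by
        rw [RingHom.id_apply, Algebra.smul_def, hmul, halg, mul_zero, add_zero, Algebra.smul_def]
        rfl }
    (fun a b => by
      change δ₀ (a * b) = a • δ₀ b + b • δ₀ a
      rw [hmul, Algebra.smul_def, Algebra.smul_def]
      rfl)
  have hzero : ∀ c, δ c = 0 := fun c => by
    rw [← δ.liftKaehlerDifferential_comp]
    simp [Subsingleton.elim (KaehlerDifferential.D D C c) 0]
  intro x hx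
  have h0 := hzero x
  change δ₀ x = 0 at h0
  have h1 := huniq x 0 (by simpa using hx)
  simp only [δ₀, map_sub, ← h1, map_zero, sub_zero] at h0
  exact Ideal.Quotient.eq_zero_iff_mem.1 h0

/-- Etale with a section: near `V(J)` the kernel is the image. -/
theorem exists_one_sub_mem [Algebra.FormallyUnramified D C] [Algebra.FiniteType D C]
    (hs : Function.Surjective ((Ideal.Quotient.mk J).comp (algebraMap D C))) :
    ∃ t : C, 1 - t ∈ J ∧ ∀ x ∈ J, t * x ∈ (J.comap (algebraMap D C)).map (algebraMap D C) := by
  let J₀ := (J.comap (algebraMap D C)).map (algebraMap D C)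
  have hJ₀ : J₀ ≤ J := Ideal.map_comap_le
  let q := Ideal.Quotient.mk J₀
  let K := J.map q
  choose d hd using fun c : C => hs (Ideal.Quotient.mk J c)
  have hd' : ∀ c, c - algebraMap D C (d c) ∈ J := fun c => Ideal.Quotient.eq.1 (hd c).symm
  obtain ⟨s, hsTop⟩ := Algebra.FiniteType.out (R := D) (A := C)
  let M : Ideal C := Ideal.span ((fun x => x - algebraMap D C (d x)) '' (s : Set C))
  have hM : ∀ c : C, ∃ e : D, c - algebraMap D C e ∈ M := fun c => by
    have hc : c ∈ Algebra.adjoin D (s : Set C) := hsTop ▸ Algebra.mem_top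
    induction hc using Algebra.adjoin_induction with
    | mem x hx => exact ⟨d x, Ideal.subset_span ⟨x, hx, rfl⟩⟩
    | algebraMap r => exact ⟨r, by simp⟩
    | add a b _ _ ha hb =>
      obtain ⟨e, he⟩ := ha
      obtain ⟨e', he'⟩ := hb
      exact ⟨e + e', by rw [map_add, add_sub_add_comm]; exact add_mem he he'⟩
    | mul a b _ _ ha hb =>
      obtain ⟨e, he⟩ := ha
      obtain ⟨e', he'⟩ := hb
      exact ⟨e * e', by
        rw [map_mul, show a * b - algebraMap D C e * algebraMap D C e' =
          a * (b - algebraMap D C e') + algebraMap D C e' * (a - algebraMap D C e) by ring]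
        exact add_mem (Ideal.mul_mem_left _ _ he') (Ideal.mul_mem_left _ _ he)⟩
  have hMJ : M ≤ J := Ideal.span_le.2 (by rintro _ ⟨x, -, rfl⟩; exact hd' x)
  have hK : K = M.map q := by
    refine le_antisymm (Ideal.map_le_iff_le_comap.2 fun x hx => ?_) (Ideal.map_mono hMJ)
    obtain ⟨e, he⟩ := hM x
    have h1 : algebraMap D C e ∈ J₀ := Ideal.mem_map_of_mem _ (by
      rw [Ideal.mem_comap]
      have := sub_mem hx (hMJ he)
      rwa [sub_sub_cancel] at this)
    rw [Ideal.mem_comap, show q x = q (x - algebraMap D C e) from Ideal.Quotient.eq.2 (by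
      rw [sub_sub_cancel]; exact h1)]
    exact Ideal.mem_map_of_mem q he
  have hfg : K.FG := by
    rw [hK]
    classical exact Ideal.FG.map ⟨s.image fun x => x - algebraMap D C (d x), by simp [M]⟩ q
  have hidem : IsIdempotentElem K := by
    refine le_antisymm Ideal.mul_le_left ?_
    have h1 := Ideal.map_mono (f := q) (le_map_sup_sq J hs)
    rwa [Ideal.map_sup, show J₀.map q = ⊥ from Ideal.map_quotient_self J₀, bot_sup_eq, pow_two,
      Ideal.map_mul] at h1
  obtain ⟨e, he, heK⟩ := (K.isIdempotentElem_iff_of_fg hfg).1 hidem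
  have heK' : e ∈ J.map q := by
    change e ∈ K
    rw [heK]
    exact Submodule.mem_span_singleton_self e
  obtain ⟨e', he'J, he'⟩ := (Ideal.mem_map_iff_of_surjective q Ideal.Quotient.mk_surjective).1 heK'
  refine ⟨1 - e', by rwa [sub_sub_cancel], fun x hx => ?_⟩
  have h1 : q x ∈ Ideal.span {e} := by
    have := Ideal.mem_map_of_mem q hx
    change q x ∈ K at this
    rwa [heK] at this
  obtain ⟨y, hy⟩ := Ideal.mem_span_singleton'.1 h1
  rw [← Ideal.Quotient.eq_zero_iff_mem]
  change q ((1 - e') * x) = 0
  rw [map_mul, map_sub, map_one, he', ← hy, sub_mul, one_mul, mul_comm y, ← mul_assoc, he.eq, sub_self]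

theorem map_comap_eq_of_mem {t : C} (ht : ∀ x ∈ J, t * x ∈ (J.comap (algebraMap D C)).map (algebraMap D C))
    {S : Type u} [CommRing S] (f : C →+* S) (hf : IsUnit (f t)) :
    (J.comap (algebraMap D C)).map (f.comp (algebraMap D C)) = J.map f := by
  rw [← Ideal.map_map]
  refine le_antisymm (Ideal.map_mono Ideal.map_comap_le) (Ideal.map_le_iff_le_comap.2 fun x hx => ?_)
  rw [Ideal.mem_comap, ← Ideal.unit_mul_mem_iff_mem _ hf, ← map_mul]
  exact Ideal.mem_map_of_mem _ (ht x hx)

/-- Koszul regularity of an ideal and of its trace in an étale base with section. -/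
theorem isKoszulRegularIdeal_comap_iff [Algebra.Etale D C]
    (hs : Function.Surjective ((Ideal.Quotient.mk J).comp (algebraMap D C))) :
    LCI.IsKoszulRegularIdeal (J.comap (algebraMap D C)) ↔ LCI.IsKoszulRegularIdeal J := by
  obtain ⟨t, ht1, ht⟩ := exists_one_sub_mem J hs
  have htQ : ∀ Q : Ideal C, Q.IsPrime → J ≤ Q → t ∉ Q := fun Q hQ hJQ h1 =>
    hQ.ne_top ((Ideal.eq_top_iff_one _).2 (by simpa using add_mem (hJQ ht1) h1))
  let J₀ := J.comap (algebraMap D C)
  constructor
  · intro h Q hJQ
    obtain ⟨g, hg, l, hl, hspan⟩ := h ⟨Q.asIdeal.comap (algebraMap D C), inferInstance⟩ (Ideal.comap_mono hJQ)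
    let G := algebraMap D C g * t
    let S := Localization.Away G
    have hu : IsUnit (algebraMap C S (algebraMap D C g)) ∧ IsUnit (algebraMap C S t) := by
      rw [← IsUnit.mul_iff, ← map_mul]; exact IsLocalization.Away.algebraMap_isUnit G
    let κ : Localization.Away g →+* S := IsLocalization.Away.lift g
      (g := (algebraMap C S).comp (algebraMap D C)) hu.1
    have hκ : κ.comp (algebraMap D _) = (algebraMap C S).comp (algebraMap D C) :=
      IsLocalization.Away.lift_comp _ _
    have hκflat : κ.Flat := by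
      letI := κ.toAlgebra
      haveI : Module.Flat D C := inferInstance
      haveI : Module.Flat C S := IsLocalization.flat S (Submonoid.powers G)
      haveI : Module.Flat D S := Module.Flat.trans D C S
      haveI : IsScalarTower D (Localization.Away g) S :=
        IsScalarTower.of_algebraMap_eq' ((IsScalarTower.algebraMap_eq D C S).trans hκ.symm)
      exact (Module.flat_iff_of_isLocalization (Localization.Away g) (Submonoid.powers g) S).2 inferInstance
    obtain ⟨l', hl', hl'I⟩ := exists_map κ hκflat ⟨l, hl, hspan.symm⟩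
    refine ⟨G, Q.isPrime.mul_notMem hg (htQ _ Q.isPrime hJQ), l', hl', (hl'I.trans ?_).symm⟩
    rw [Ideal.map_map, hκ]
    exact map_comap_eq_of_mem J ht (algebraMap C S) hu.2
  · intro h P hJP
    -- the prime of `C` over `P`
    let ψ : D →+* C ⧸ J := (Ideal.Quotient.mk J).comp (algebraMap D C)
    have hψk : RingHom.ker ψ = J₀ := by
      rw [← RingHom.comap_ker, Ideal.mk_ker]
    haveI hq : (P.asIdeal.map ψ).IsPrime := Ideal.map_isPrime_of_surjective hs (hψk ▸ hJP)
    let Q : PrimeSpectrum C := ⟨(P.asIdeal.map ψ).comap (Ideal.Quotient.mk J), inferInstance⟩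
    have hQP : Q.asIdeal.comap (algebraMap D C) = P.asIdeal := by
      rw [show Q.asIdeal.comap (algebraMap D C) = (P.asIdeal.map ψ).comap ψ from Ideal.comap_comap _ _,
        Ideal.comap_map_of_surjective _ hs, ← RingHom.ker_eq_comap_bot, hψk]
      exact sup_eq_left.2 hJP
    have hJQ : J ≤ Q.asIdeal := by
      conv_lhs => rw [← Ideal.mk_ker (I := J)]
      exact Ideal.comap_mono bot_le
    obtain ⟨g, hg, l, hl, hspan⟩ := h Q hJQ
    let G := g * t
    have hGQ : G ∉ Q.asIdeal := Q.isPrime.mul_notMem hg (htQ _ Q.isPrime hJQ)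
    haveI : Algebra.HasGoingDown D C := Algebra.HasGoingDown.of_flat
    have hopen := PrimeSpectrum.isOpenMap_comap_of_hasGoingDown_of_finitePresentation (R := D) (S := C)
      _ (PrimeSpectrum.basicOpen G).isOpen
    obtain ⟨_, ⟨_, ⟨d, rfl⟩, rfl⟩, hdP, hdle⟩ := PrimeSpectrum.isBasis_basic_opens.exists_subset_of_mem_open
      (show P ∈ PrimeSpectrum.comap (algebraMap D C) '' (PrimeSpectrum.basicOpen G : Set (PrimeSpectrum C)) from
        ⟨Q, hGQ, PrimeSpectrum.ext hQP⟩) hopen
    refine exists_away_of_away P hJP hdP ?_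
    let H := G * algebraMap D C d
    let S := Localization.Away H
    have hu : (IsUnit (algebraMap C S g) ∧ IsUnit (algebraMap C S t)) ∧
        IsUnit (algebraMap C S (algebraMap D C d)) := by
      rw [← IsUnit.mul_iff, ← map_mul, ← IsUnit.mul_iff, ← map_mul]
      exact IsLocalization.Away.algebraMap_isUnit H
    let A := Localization.Away d
    let κ : A →+* S := IsLocalization.Away.lift d (g := (algebraMap C S).comp (algebraMap D C)) hu.2
    have hκ : κ.comp (algebraMap D A) = (algebraMap C S).comp (algebraMap D C) :=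
      IsLocalization.Away.lift_comp _ _
    letI := κ.toAlgebra
    haveI : IsScalarTower D A S := IsScalarTower.of_algebraMap_eq' ((IsScalarTower.algebraMap_eq D C S).trans hκ.symm)
    haveI : Module.Flat C S := IsLocalization.flat S (Submonoid.powers H)
    haveI : Module.Flat D S := Module.Flat.trans D C S
    haveI : Module.Flat A S := (Module.flat_iff_of_isLocalization A (Submonoid.powers d) S).2 inferInstance
    haveI : Module.FaithfullyFlat A S := by
      refine Module.FaithfullyFlat.of_comap_surjective fun p => ?_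
      have hdp : d ∉ (p.comap (algebraMap D A)).asIdeal := fun h1 =>
        p.isPrime.ne_top (Ideal.eq_top_of_isUnit_mem _ h1 (IsLocalization.Away.algebraMap_isUnit d))
      obtain ⟨Q', hQ', hQ'p⟩ := hdle hdp
      have hH : Q' ∈ PrimeSpectrum.basicOpen H := by
        refine Q'.isPrime.mul_notMem hQ' fun h1 => hdp ?_
        rw [← hQ'p]
        exact h1
      rw [← SetLike.mem_coe, ← PrimeSpectrum.localization_away_comap_range S H] at hH
      obtain ⟨R', hR'⟩ := hH
      refine ⟨R', (PrimeSpectrum.localization_comap_injective A (Submonoid.powers d)) ?_⟩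
      rw [← hQ'p, ← hR', ← PrimeSpectrum.comap_comp_apply, ← PrimeSpectrum.comap_comp_apply]
      exact congrArg (fun f => PrimeSpectrum.comap f R') hκ
    refine isKoszulRegularIdeal_of_map (B := S) ?_
    rw [Ideal.map_map, show (algebraMap A S).comp (algebraMap D A) = (algebraMap C S).comp (algebraMap D C) from hκ,
      map_comap_eq_of_mem J ht (algebraMap C S) hu.1.2]
    let μ : Localization.Away g →+* S := IsLocalization.Away.lift g (g := algebraMap C S) hu.1.1
    have hμ : μ.comp (algebraMap C _) = algebraMap C S := IsLocalization.Away.lift_comp _ _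
    have hμflat : μ.Flat := by
      letI := μ.toAlgebra
      haveI : IsScalarTower C (Localization.Away g) S := IsScalarTower.of_algebraMap_eq' hμ.symm
      exact (Module.flat_iff_of_isLocalization (Localization.Away g) (Submonoid.powers g) S).2 inferInstance
    obtain ⟨l', hl', hl'I⟩ := exists_map μ hμflat ⟨l, hl, hspan.symm⟩
    rw [← hμ, ← Ideal.map_map, ← hl'I]
    exact isKoszulRegularIdeal_of_seq hl'

end Groth.Agent.KReg44
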