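import Groth.Agent.KReg44.Section
import Groth.Agent.KReg44.Vars
import Groth.Agent.KReg44.Etale
import Mathlib.RingTheory.RingHom.StandardSmooth

/-!
# Koszul-regular kernels and standard smooth maps
-/

set_option autoImplicit false

universe u

open MvPolynomial

namespace Groth.Agent.KReg44

/-- The same for `A → A[X] → C` with the second map étale. -/
theorem isKoszulRegularIdeal_ker_iff_of_etale {A C B : Type u} [CommRing A] [CommRing C] [CommRing B]
    (φ : A →+* C) (γ : C →+* B) (hπ : Function.Surjective (γ.comp φ)) {n : ℕ}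
    (g : MvPolynomial (Fin n) A →+* C) (hg : g.comp MvPolynomial.C = φ) (het : g.Etale) :
    LCI.IsKoszulRegularIdeal (RingHom.ker (γ.comp φ)) ↔ LCI.IsKoszulRegularIdeal (RingHom.ker γ) := by
  choose a ha using fun k : Fin n => hπ (γ (g (X k)))
  let σ : MvPolynomial (Fin n) A →ₐ[A] A := aeval a
  have hcomp : (γ.comp φ).comp σ.toRingHom = γ.comp g := by
    refine ringHom_ext (fun r => ?_) (fun k => ?_)
    · change γ (φ (σ (MvPolynomial.C r))) = γ (g (MvPolynomial.C r))
      rw [← hg]; simp [σ]
    · change γ (φ (σ (X k))) = γ (g (X k))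
      rw [show σ (X k) = a k from aeval_X a k]
      exact ha k
  let y : List (MvPolynomial (Fin n) A) := List.ofFn fun k => X k - MvPolynomial.C (a k)
  have hy : LCI.IsKoszulRegularSeq (MvPolynomial (Fin n) A) y := isKoszulRegularSeq_X_sub_C n a
  have hyk : RingHom.ker σ = Ideal.ofList y := by
    rw [← span_range_eq_ofList]
    exact SmoothingLib.ker_aeval_eq_span a
  let J := RingHom.ker (γ.comp g)
  have hJσ : RingHom.ker σ ≤ J := fun x hx => by
    rw [RingHom.mem_ker, ← hcomp, RingHom.comp_apply, show σ.toRingHom x = 0 from hx, map_zero]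
  have hsurj : Function.Surjective σ := fun r => ⟨MvPolynomial.C r, aeval_C a r⟩
  have hJ : J.map σ = RingHom.ker (γ.comp φ) := by
    rw [show J = (RingHom.ker (γ.comp φ)).comap σ.toRingHom by rw [RingHom.comap_ker, hcomp]]
    exact Ideal.map_comap_of_surjective σ.toRingHom hsurj _
  have h1 : LCI.IsKoszulRegularIdeal (RingHom.ker (γ.comp φ)) ↔ LCI.IsKoszulRegularIdeal J := by
    rw [← hJ]
    refine ⟨fun h => ?_, isKoszulRegularIdeal_map_section σ hy hyk hJσ⟩
    have := isKoszulRegularIdeal_sup σ hy hyk h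
    rwa [← eq_map_sup_ker σ hJσ] at this
  have hγ : Function.Surjective γ := fun b => by
    obtain ⟨r, hr⟩ := hπ b; exact ⟨φ r, hr⟩
  letI := g.toAlgebra
  haveI : Algebra.Etale (MvPolynomial (Fin n) A) C := het
  have h2 : LCI.IsKoszulRegularIdeal J ↔ LCI.IsKoszulRegularIdeal (RingHom.ker γ) := by
    rw [show J = (RingHom.ker γ).comap (algebraMap (MvPolynomial (Fin n) A) C) from
      (RingHom.comap_ker γ g).symm]
    refine isKoszulRegularIdeal_comap_iff (RingHom.ker γ) fun c => ?_
    obtain ⟨c, rfl⟩ := Ideal.Quotient.mk_surjective c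
    obtain ⟨r, hr⟩ := hπ (γ c)
    refine ⟨MvPolynomial.C r, Ideal.Quotient.eq.2 ?_⟩
    change g (MvPolynomial.C r) - c ∈ RingHom.ker γ
    rw [RingHom.mem_ker, map_sub, sub_eq_zero, ← hr, ← hg]
    rfl
  exact h1.trans h2

/-- For `A → C` standard smooth and `C ↠ B` with `A ↠ B`, the kernel in `A` is Koszul-regular if and
only if the kernel in `C` is. -/
theorem isKoszulRegularIdeal_ker_iff {A C B : Type u} [CommRing A] [CommRing C] [CommRing B]
    (φ : A →+* C) (hφ : φ.IsStandardSmooth) (γ : C →+* B) (hπ : Function.Surjective (γ.comp φ)) :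
    LCI.IsKoszulRegularIdeal (RingHom.ker (γ.comp φ)) ↔ LCI.IsKoszulRegularIdeal (RingHom.ker γ) := by
  obtain ⟨n, g, hg, het⟩ := hφ.exists_etale_mvPolynomial
  exact isKoszulRegularIdeal_ker_iff_of_etale φ γ hπ g hg het

/-- Koszul regularity of ideals is invariant under isomorphisms. -/
theorem isKoszulRegularIdeal_of_equiv {R S : Type u} [CommRing R] [CommRing S] (e : R ≃+* S) {I : Ideal R}
    (h : LCI.IsKoszulRegularIdeal (I.map e.toRingHom)) : LCI.IsKoszulRegularIdeal I := by
  letI := e.toRingHom.toAlgebra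
  haveI : Module.FaithfullyFlat R S := by
    haveI : Module.Flat R S := RingHom.Flat.of_bijective e.bijective
    exact Module.FaithfullyFlat.of_comap_surjective
      (fun p => ⟨PrimeSpectrum.comap e.symm.toRingHom p, by
        rw [← PrimeSpectrum.comap_comp_apply]
        change PrimeSpectrum.comap (e.symm.toRingHom.comp e.toRingHom) p = p
        rw [show e.symm.toRingHom.comp e.toRingHom = RingHom.id R from RingHom.ext fun x => e.symm_apply_apply x]
        rfl⟩)
  exact isKoszulRegularIdeal_of_map (B := S) h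

/-- Two polynomial presentations. -/
theorem isKoszulRegularIdeal_ker_of_presentation {A B : Type u} [CommRing A] [CommRing B] [Algebra A B] {n m : ℕ}
    (α : MvPolynomial (Fin n) A →ₐ[A] B) (hα : Function.Surjective α)
    (β : MvPolynomial (Fin m) A →ₐ[A] B) (hβ : Function.Surjective β)
    (h : LCI.IsKoszulRegularIdeal (RingHom.ker α.toRingHom)) :
    LCI.IsKoszulRegularIdeal (RingHom.ker β.toRingHom) := by
  let γ₁ : MvPolynomial (Fin m) (MvPolynomial (Fin n) A) →+* B :=
    eval₂Hom α.toRingHom fun j => β (X j)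
  let γ₂ : MvPolynomial (Fin n) (MvPolynomial (Fin m) A) →+* B :=
    eval₂Hom β.toRingHom fun j => α (X j)
  have h1 : γ₁.comp MvPolynomial.C = α.toRingHom := RingHom.ext fun r => eval₂Hom_C _ _ r
  have h2 : γ₂.comp MvPolynomial.C = β.toRingHom := RingHom.ext fun r => eval₂Hom_C _ _ r
  have key₁ := isKoszulRegularIdeal_ker_iff_of_etale MvPolynomial.C γ₁ (by rw [h1]; exact hα)
    (RingHom.id _) (RingHom.id_comp _) (RingHom.Etale.of_bijective Function.bijective_id)
  have key₂ := isKoszulRegularIdeal_ker_iff_of_etale MvPolynomial.C γ₂ (by rw [h2]; exact hβ)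
    (RingHom.id _) (RingHom.id_comp _) (RingHom.Etale.of_bijective Function.bijective_id)
  rw [h1] at key₁
  rw [h2] at key₂
  let e := (commAlgEquiv A (Fin n) (Fin m)).toRingEquiv
  have hγ : γ₁.comp e.toRingHom = γ₂ := by
    refine ringHom_ext (fun p => ?_) (fun i => ?_)
    · induction p using MvPolynomial.induction_on with
      | C a => simp [e, γ₁, γ₂]
      | add p q hp hq => simp only [map_add, hp, hq]
      | mul_X p j hp => simp only [map_mul, hp]; simp [e, γ₁, γ₂]
    · simp [e, γ₁, γ₂]
  refine key₂.2 (isKoszulRegularIdeal_of_equiv e ?_)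
  rw [← hγ, ← RingHom.comap_ker, Ideal.map_comap_of_surjective e.toRingHom e.surjective]
  exact key₁.1 h

/-- Koszul regularity of ideals ascends along flat maps. -/
theorem isKoszulRegularIdeal_map {R S : Type u} [CommRing R] [CommRing S] (φ : R →+* S) (hφ : φ.Flat)
    {I : Ideal R} (h : LCI.IsKoszulRegularIdeal I) : LCI.IsKoszulRegularIdeal (I.map φ) := by
  intro Q hQ
  obtain ⟨g, hg, l, hl, hspan⟩ := h ⟨Q.asIdeal.comap φ, inferInstance⟩ (Ideal.map_le_iff_le_comap.1 hQ)
  let S' := Localization.Away (φ g)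
  let κ : Localization.Away g →+* S' := Localization.awayMap φ g
  have hκ : κ.comp (algebraMap R _) = (algebraMap S S').comp φ :=
    RingHom.ext fun r => by simp [κ, S', Localization.awayMap, IsLocalization.Away.map, IsLocalization.map_eq]
  have hκflat : κ.Flat := by
    letI := φ.toAlgebra
    letI := κ.toAlgebra
    haveI : IsScalarTower R (Localization.Away g) S' :=
      IsScalarTower.of_algebraMap_eq' ((IsScalarTower.algebraMap_eq R S S').trans hκ.symm)
    haveI : Module.Flat R S := hφ
    haveI : Module.Flat S S' := IsLocalization.flat S' (Submonoid.powers (φ g))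
    haveI : Module.Flat R S' := Module.Flat.trans R S S'
    exact (Module.flat_iff_of_isLocalization (Localization.Away g) (Submonoid.powers g) S').2 inferInstance
  obtain ⟨l', hl', hl'I⟩ := exists_map κ hκflat ⟨l, hl, hspan.symm⟩
  refine ⟨φ g, hg, l', hl', (hl'I.trans ?_).symm⟩
  rw [Ideal.map_map, Ideal.map_map, hκ]

end Groth.Agent.KReg44
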