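import Groth.Agent.KReg44.Smooth
import Mathlib.RingTheory.MvPolynomial.Localization
import Mathlib.RingTheory.RingHom.FiniteType

/-!
# Local complete intersection algebras: locality on the source
-/

set_option autoImplicit false

universe u

open MvPolynomial

namespace Groth.Agent.KReg44

/-- Kernels commute with localisation. -/
theorem ker_eq_map_ker {R R' S : Type u} [CommRing R] [CommRing R'] [CommRing S] [Algebra R R']
    (M : Submonoid R) [IsLocalization M R'] (γ : R' →+* S) :
    RingHom.ker γ = (RingHom.ker (γ.comp (algebraMap R R'))).map (algebraMap R R') := by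
  rw [← RingHom.comap_ker]
  exact (IsLocalization.map_under M R' _).symm

variable {A S : Type u} [CommRing A] [CommRing S] [Algebra A S]

theorem isKoszulRegularIdeal_away {n : ℕ} (f : MvPolynomial (Fin n) A →ₐ[A] S) (hf : Function.Surjective f)
    (G : MvPolynomial (Fin n) A) (h : LCI.IsLCI A (Localization.Away (f G))) :
    LCI.IsKoszulRegularIdeal ((RingHom.ker f.toRingHom).map (algebraMap _ (Localization.Away G))) := by
  obtain ⟨-, N, α, hα, hker⟩ := h
  let Sg := Localization.Away (f G)
  let R₀ := Localization.Away G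
  let γ₀ : R₀ →+* Sg := Localization.awayMap f.toRingHom G
  have hγ₀ : γ₀.comp (algebraMap _ R₀) = (algebraMap S Sg).comp f.toRingHom :=
    RingHom.ext fun r => by simp [γ₀, R₀, Sg, Localization.awayMap, IsLocalization.Away.map, IsLocalization.map_eq]
  have hk₀ : RingHom.ker γ₀ = (RingHom.ker f.toRingHom).map (algebraMap _ R₀) := by
    haveI : IsLocalization ((Submonoid.powers G).map f.toRingHom) Sg := by
      rw [Submonoid.map_powers]; exact inferInstanceAs (IsLocalization (Submonoid.powers (f G)) Sg)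
    exact IsLocalization.ker_map (Q := Sg) (S := R₀) (g := f.toRingHom) rfl
  rw [← hk₀]
  -- the presentation with one more variable
  let γD : (MvPolynomial (Fin 1) (MvPolynomial (Fin n) A)) →+* Sg := eval₂Hom ((algebraMap S Sg).comp f.toRingHom) fun _ => IsLocalization.Away.invSelf (f G)
  have hγDsurj : Function.Surjective γD := fun z => by
    obtain ⟨⟨a, ⟨_, k, rfl⟩⟩, hz⟩ := IsLocalization.surj (Submonoid.powers (f G)) z
    obtain ⟨b, rfl⟩ := hf a
    refine ⟨MvPolynomial.C b * X 0 ^ k, ?_⟩
    change γD (MvPolynomial.C b * X 0 ^ k) = z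
    simp only [γD, map_mul, map_pow, eval₂Hom_C, eval₂Hom_X', RingHom.comp_apply]
    change algebraMap S Sg (f b) * _ = z
    rw [← hz, map_pow, mul_assoc, ← mul_pow, IsLocalization.Away.mul_invSelf, one_pow, mul_one]
  -- as a presentation over `A`
  let e : MvPolynomial (Fin (1 + n)) A ≃ₐ[A] (MvPolynomial (Fin 1) (MvPolynomial (Fin n) A)) :=
    (renameEquiv A finSumFinEquiv.symm).trans (sumAlgEquiv A (Fin 1) (Fin n))
  let β : MvPolynomial (Fin (1 + n)) A →ₐ[A] Sg :=
    { (γD.comp e.toRingEquiv.toRingHom) with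
      commutes' := fun r => by
        change γD (e (algebraMap A _ r)) = _
        rw [AlgEquiv.commutes, IsScalarTower.algebraMap_apply A (MvPolynomial (Fin n) A) (MvPolynomial (Fin 1) (MvPolynomial (Fin n) A))]
        simp only [γD, MvPolynomial.algebraMap_eq, eval₂Hom_C, RingHom.comp_apply]
        change algebraMap S Sg (f (MvPolynomial.C r)) = _
        rw [← MvPolynomial.algebraMap_eq, AlgHom.commutes, ← IsScalarTower.algebraMap_apply] }
  have hβk : LCI.IsKoszulRegularIdeal (RingHom.ker β.toRingHom) :=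
    isKoszulRegularIdeal_ker_of_presentation α hα β (hγDsurj.comp e.surjective) hker
  have hDk : LCI.IsKoszulRegularIdeal (RingHom.ker γD) := by
    refine isKoszulRegularIdeal_of_equiv e.toRingEquiv.symm ?_
    convert hβk using 1
    rw [show β.toRingHom = γD.comp e.toRingEquiv.toRingHom from rfl, ← RingHom.comap_ker]
    exact (Ideal.comap_symm e.toRingEquiv.symm).symm
  -- localise the coefficients
  let γC : (MvPolynomial (Fin 1) R₀) →+* Sg := eval₂Hom γ₀ fun _ => IsLocalization.Away.invSelf (f G)
  letI : Algebra (MvPolynomial (Fin 1) (MvPolynomial (Fin n) A)) (MvPolynomial (Fin 1) R₀) := (MvPolynomial.map (algebraMap _ R₀)).toAlgebra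
  have hγC : γC.comp (algebraMap (MvPolynomial (Fin 1) (MvPolynomial (Fin n) A)) (MvPolynomial (Fin 1) R₀)) = γD := by
    refine ringHom_ext (fun r => ?_) (fun i => ?_)
    · rw [RingHom.algebraMap_toAlgebra]
      simp only [γC, γD, RingHom.comp_apply, map_C, eval₂Hom_C]
      exact RingHom.congr_fun hγ₀ r
    · rw [RingHom.algebraMap_toAlgebra]
      simp [γC, γD]
  haveI : IsLocalization ((Submonoid.powers G).map (MvPolynomial.C : _ →+* (MvPolynomial (Fin 1) (MvPolynomial (Fin n) A)))) (MvPolynomial (Fin 1) R₀) :=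
    MvPolynomial.isLocalization _ _
  have hflat : (algebraMap (MvPolynomial (Fin 1) (MvPolynomial (Fin n) A)) (MvPolynomial (Fin 1) R₀)).Flat :=
    RingHom.flat_algebraMap_iff.2 (IsLocalization.flat (MvPolynomial (Fin 1) R₀) ((Submonoid.powers G).map (MvPolynomial.C : _ →+* (MvPolynomial (Fin 1) (MvPolynomial (Fin n) A)))))
  have hCk : LCI.IsKoszulRegularIdeal (RingHom.ker γC) := by
    rw [ker_eq_map_ker ((Submonoid.powers G).map (MvPolynomial.C : _ →+* (MvPolynomial (Fin 1) (MvPolynomial (Fin n) A)))) γC, hγC]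
    exact isKoszulRegularIdeal_map _ hflat hDk
  have hcomp : γC.comp MvPolynomial.C = γ₀ := RingHom.ext fun r => eval₂Hom_C _ _ r
  have hsurj₀ : Function.Surjective γ₀ := fun z => by
    obtain ⟨⟨a, ⟨_, k, rfl⟩⟩, hz⟩ := IsLocalization.surj (Submonoid.powers (f G)) z
    obtain ⟨b, rfl⟩ := hf a
    refine ⟨algebraMap _ R₀ b * IsLocalization.Away.invSelf G ^ k, ?_⟩
    apply ((IsLocalization.Away.algebraMap_isUnit (S := Sg) (f G)).pow k).mul_right_cancel
    rw [map_pow] at hz
    rw [hz, show algebraMap S Sg (f G) = γ₀ (algebraMap _ R₀ G) from (RingHom.congr_fun hγ₀ G).symm,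
      ← map_pow, ← map_mul, mul_assoc, ← mul_pow, mul_comm (IsLocalization.Away.invSelf G),
      IsLocalization.Away.mul_invSelf, one_pow, mul_one]
    exact RingHom.congr_fun hγ₀ b
  have key := isKoszulRegularIdeal_ker_iff_of_etale MvPolynomial.C γC (by rw [hcomp]; exact hsurj₀)
    (RingHom.id _) (RingHom.id_comp _) (RingHom.Etale.of_bijective Function.bijective_id)
  rw [hcomp] at key
  exact key.2 hCk

/-- Local complete intersection algebras are local on the source. -/
theorem isLCI_of_span_eq_top {m : ℕ} (g : Fin m → S) (hg : Ideal.span (Set.range g) = ⊤)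
    (h : ∀ j, LCI.IsLCI A (Localization.Away (g j))) : LCI.IsLCI A S := by
  have hft : Algebra.FiniteType A S := by
    rw [← RingHom.finiteType_algebraMap]
    refine RingHom.finiteType_ofLocalizationSpanTarget (algebraMap A S) (Set.range g) hg ?_
    rintro ⟨_, j, rfl⟩
    rw [← IsScalarTower.algebraMap_eq]
    exact RingHom.finiteType_algebraMap.2 (h j).1
  obtain ⟨n, f, hf⟩ := Algebra.FiniteType.iff_quotient_mvPolynomial''.1 hft
  refine ⟨hft, n, f, hf, fun P hP => ?_⟩
  obtain ⟨j, hj⟩ : ∃ j, g j ∉ P.asIdeal.map f.toRingHom := by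
    by_contra hc
    push Not at hc
    haveI := Ideal.map_isPrime_of_surjective (f := f.toRingHom) hf hP
    exact Ideal.IsPrime.ne_top ‹_› (eq_top_iff.2 (hg ▸ Ideal.span_le.2 (by rintro _ ⟨j, rfl⟩; exact hc j)))
  obtain ⟨G, hG⟩ := hf (g j)
  refine exists_away_of_away P hP (fun hGP => hj (hG ▸ Ideal.mem_map_of_mem f.toRingHom hGP)) ?_
  exact isKoszulRegularIdeal_away f hf G (hG.symm ▸ h j)

end Groth.Agent.KReg44
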