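import Groth.Agent.KReg44.Append
import Groth.Agent.KReg44.Ideal

/-!
# Koszul-regular ideals and sections

`σ : D → A` a retraction of an `A`-algebra whose kernel is generated by a Koszul-regular sequence
`y`. Then `I` is Koszul-regular in `A` if and only if `I D + (y)` is Koszul-regular in `D`.
-/

set_option autoImplicit false

universe u

namespace Groth.Agent.KReg44

variable {R : Type u} [CommRing R]

/-- An irredundant sublist generating the same ideal. -/
theorem exists_irredundant : ∀ (n : ℕ) (l : List R), l.length = n → ∃ l' : List R,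
    (∀ x ∈ l', x ∈ l) ∧ Ideal.ofList l' = Ideal.ofList l ∧
      ∀ pre x post, l' = pre ++ x :: post → x ∉ Ideal.ofList (pre ++ post) := by
  intro n
  induction n using Nat.strong_induction_on with
  | _ n ih =>
    intro l hl
    by_cases h : ∀ pre x post, l = pre ++ x :: post → x ∉ Ideal.ofList (pre ++ post)
    · exact ⟨l, fun x hx => hx, rfl, h⟩
    push Not at h
    obtain ⟨pre, x, post, rfl, hx⟩ := h
    obtain ⟨l', hsub, hspan, hirr⟩ := ih (pre ++ post).length (by simp at hl ⊢; omega) (pre ++ post) rfl
    refine ⟨l', fun y hy => by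
      have := hsub y hy
      simp only [List.mem_append, List.mem_cons] at this ⊢
      tauto, hspan.trans (le_antisymm (ofList_mono fun y hy => ?_) (Ideal.span_le.2 fun y hy => ?_)), hirr⟩
    · simp only [List.mem_append, List.mem_cons] at hy ⊢
      tauto
    · change y ∈ pre ++ x :: post at hy
      simp only [List.mem_append, List.mem_cons] at hy
      rcases hy with hy | rfl | hy
      · exact Ideal.subset_span (List.mem_append_left _ hy)
      · exact hx
      · exact Ideal.subset_span (List.mem_append_right _ hy)

/-- A generating sequence as short as a Koszul-regular one is Koszul-regular. -/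
theorem isKoszulRegularSeq_of_length_eq {h f : List R} (hh : LCI.IsKoszulRegularSeq R h)
    (hspan : Ideal.ofList h = Ideal.ofList f) (hlen : f.length = h.length) :
    LCI.IsKoszulRegularSeq R f := by
  refine isKoszulRegularSeq_of_forall_prime fun Q hQ => ?_
  let S := Localization.AtPrime Q
  let φ := algebraMap R S
  have hspan' : Ideal.ofList (h.map φ) = Ideal.ofList (f.map φ) := by
    rw [← Ideal.map_ofList, ← Ideal.map_ofList, hspan]
  haveI : Module.Flat R S := IsLocalization.flat S Q.primeCompl
  have hh' : LCI.IsKoszulRegularSeq S (h.map φ) :=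
    isKoszulRegularSeq_map φ (RingHom.flat_algebraMap_iff.2 inferInstance) hh
  by_cases htop : Ideal.ofList (f.map φ) ≤ IsLocalRing.maximalIdeal S
  swap
  · refine isKoszulRegularSeq_of_eq_top ?_
    by_contra hne
    exact htop (IsLocalRing.le_maximalIdeal hne)
  refine isKoszulRegularSeq_of_irr hh' hspan' (hspan' ▸ htop) (irr_of_irredundant fun pre x post hfx hx => ?_)
  have h1 : Ideal.ofList (pre ++ post) = Ideal.ofList (h.map φ) := by
    rw [hspan', hfx]
    refine le_antisymm (ofList_mono fun y hy => ?_) (Ideal.span_le.2 fun y hy => ?_)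
    · simp only [List.mem_append, List.mem_cons] at hy ⊢
      tauto
    · change y ∈ pre ++ x :: post at hy
      simp only [List.mem_append, List.mem_cons] at hy
      rcases hy with hy | rfl | hy
      · exact Ideal.subset_span (List.mem_append_left _ hy)
      · exact hx
      · exact Ideal.subset_span (List.mem_append_right _ hy)
  have h2 := length_le_of_irr h1 (irr_of_regular hh' (hspan' ▸ htop))
  have h3 := congrArg List.length hfx
  simp only [List.length_map, List.length_append, List.length_cons] at h2 h3
  omega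

variable {A D : Type u} [CommRing A] [CommRing D] [Algebra A D] (σ : D →ₐ[A] A)

theorem sub_algebraMap_mem_ker (x : D) : x - algebraMap A D (σ x) ∈ RingHom.ker σ := by
  rw [RingHom.mem_ker, map_sub, AlgHom.commutes]; exact sub_self _

theorem eq_map_sup_ker {J : Ideal D} (hJ : RingHom.ker σ ≤ J) :
    J = (J.map σ).map (algebraMap A D) ⊔ RingHom.ker σ := by
  have hsurj : Function.Surjective σ := fun a => ⟨algebraMap A D a, σ.commutes a⟩
  refine le_antisymm (fun x hx => ?_) (sup_le (Ideal.map_le_iff_le_comap.2 fun a ha => ?_) hJ)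
  · have := Submodule.add_mem_sup (Ideal.mem_map_of_mem (algebraMap A D) (Ideal.mem_map_of_mem σ hx))
      (sub_algebraMap_mem_ker σ x)
    rwa [add_sub_cancel] at this
  · obtain ⟨j, hj, rfl⟩ := (Ideal.mem_map_iff_of_surjective σ hsurj).1 ha
    rw [Ideal.mem_comap]
    have := sub_mem hj (hJ (sub_algebraMap_mem_ker σ j))
    rwa [sub_sub_cancel] at this

variable {y : List D} (hy : LCI.IsKoszulRegularSeq D y) (hyk : RingHom.ker σ = Ideal.ofList y)
include hy hyk

/-- Adding the kernel of the retraction. -/
theorem isKoszulRegularIdeal_sup {I : Ideal A} (h : LCI.IsKoszulRegularIdeal I) :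
    LCI.IsKoszulRegularIdeal (I.map (algebraMap A D) ⊔ RingHom.ker σ) := by
  intro P hP
  obtain ⟨hPI, hPσ⟩ := sup_le_iff.1 hP
  let p : PrimeSpectrum A := ⟨P.asIdeal.comap (algebraMap A D), inferInstance⟩
  obtain ⟨g, hg, f, hf, hspan⟩ := h p (Ideal.map_le_iff_le_comap.1 hPI)
  let G := algebraMap A D g
  refine ⟨G, hg, ?_⟩
  let ι : Localization.Away g →+* Localization.Away G := Localization.awayMap (algebraMap A D) g
  have hσG : σ G = g := σ.commutes g
  have hM : (Submonoid.powers G).map σ = Submonoid.powers g := by
    rw [Submonoid.map_powers, hσG]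
  haveI : IsLocalization ((Submonoid.powers G).map σ.toRingHom) (Localization.Away g) := by
    change IsLocalization ((Submonoid.powers G).map σ) _
    rw [hM]; infer_instance
  let τ : Localization.Away G →+* Localization.Away g :=
    IsLocalization.map (Localization.Away g) σ.toRingHom (Submonoid.powers G).le_comap_map
  have hτι : ∀ x, τ (ι x) = x := by
    refine RingHom.congr_fun (f := τ.comp ι) (g := RingHom.id _) ?_
    refine IsLocalization.ringHom_ext (Submonoid.powers g) (RingHom.ext fun a => ?_)
    change τ (ι (algebraMap A _ a)) = algebraMap A (Localization.Away g) a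
    rw [show ι (algebraMap A _ a) = algebraMap D (Localization.Away G) (algebraMap A D a) from
      IsLocalization.map_eq _ a]
    exact (IsLocalization.map_eq _ _).trans (congrArg _ (σ.commutes a))
  have hτk : RingHom.ker τ = Ideal.ofList (y.map (algebraMap D (Localization.Away G))) := by
    rw [IsLocalization.ker_map (Q := Localization.Away g) (S := Localization.Away G) (g := σ.toRingHom) rfl,
      ← Ideal.map_ofList, ← hyk]
    rfl
  have hyG : LCI.IsKoszulRegularSeq (Localization.Away G) (y.map (algebraMap D _)) :=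
    isKoszulRegularSeq_map _ (RingHom.flat_algebraMap_iff.2 (IsLocalization.flat _ (Submonoid.powers G))) hy
  refine ⟨f.map ι ++ y.map (algebraMap D _), ?_, ?_⟩
  · refine isKoszulRegularSeq_append τ hyG (fun x => ⟨ι x, hτι x⟩) hτk ?_
    rwa [List.map_map, show (τ : _ → _) ∘ ι = id from funext hτι, List.map_id]
  · change _ = Ideal.ofList _
    change _ = Ideal.ofList f at hspan
    rw [Ideal.map_sup, Ideal.ofList_append, hyk, Ideal.map_ofList, Ideal.map_map]
    congr 1
    rw [← Ideal.map_ofList, ← hspan, Ideal.map_map]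
    congr 1
    ext a
    simp [ι, Localization.awayMap, IsLocalization.Away.map, IsLocalization.map_eq, G]

/-- Removing the kernel of the retraction. -/
theorem isKoszulRegularIdeal_map_section {J : Ideal D} (hJ : RingHom.ker σ ≤ J)
    (h : LCI.IsKoszulRegularIdeal J) : LCI.IsKoszulRegularIdeal (J.map σ) := by
  intro p hp
  let I := J.map σ
  let P : PrimeSpectrum D := ⟨p.asIdeal.comap σ, inferInstance⟩
  have hJP : J ≤ P.asIdeal := Ideal.map_le_iff_le_comap.1 hp
  have hJeq := eq_map_sup_ker σ hJ
  obtain ⟨g, hg, l, hl, hspan⟩ := h P hJP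
  change _ = Ideal.ofList l at hspan
  have hgp : σ g ∉ p.asIdeal := hg
  -- generators of `I` near `p`
  let Dg := Localization.Away g
  let Ag := Localization.Away (σ g)
  let σg : Dg →+* Ag := Localization.awayMap σ.toRingHom g
  have hσg : σg.comp (algebraMap D Dg) = (algebraMap A Ag).comp σ.toRingHom := RingHom.ext fun x => by
    simp [σg, Localization.awayMap, IsLocalization.Away.map, IsLocalization.map_eq]
    rfl
  have hIg : I.map (algebraMap A Ag) = Ideal.ofList (l.map σg) := by
    rw [← Ideal.map_ofList, ← hspan, Ideal.map_map, hσg, ← Ideal.map_map]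
    rfl
  choose num hnum using fun x : Ag => IsLocalization.surj (Submonoid.powers (σ g)) x
  let f₀ : List A := (l.map σg).map fun x => (num x).1
  have hf₀ : I.map (algebraMap A Ag) = Ideal.ofList (f₀.map (algebraMap A Ag)) := by
    rw [hIg]
    refine le_antisymm (Ideal.span_le.2 fun x hx => ?_) (Ideal.span_le.2 fun z hz => ?_)
    · rw [SetLike.mem_coe, ← Ideal.mul_unit_mem_iff_mem _
        (IsLocalization.map_units Ag (num x).2), hnum x]
      exact Ideal.subset_span (List.mem_map.2 ⟨_, List.mem_map.2 ⟨x, hx, rfl⟩, rfl⟩)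
    · obtain ⟨a, ha, rfl⟩ := List.mem_map.1 hz
      obtain ⟨x, hx, rfl⟩ := List.mem_map.1 ha
      rw [SetLike.mem_coe, ← hnum x]
      exact Ideal.mul_mem_right _ _ (Ideal.subset_span hx)
  -- an irredundant subfamily at `p`
  let Ap := Localization.AtPrime p.asIdeal
  let ψ : Ag →+* Ap := IsLocalization.Away.lift (σ g) (IsLocalization.map_units Ap (⟨σ g, hgp⟩ : p.asIdeal.primeCompl))
  have hψ : ψ.comp (algebraMap A Ag) = algebraMap A Ap := IsLocalization.Away.lift_comp _ _
  have hIp : I.map (algebraMap A Ap) = Ideal.ofList (f₀.map (algebraMap A Ap)) := by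
    rw [← hψ, ← Ideal.map_map, hf₀, ← Ideal.map_ofList, ← Ideal.map_ofList, Ideal.map_map]
  obtain ⟨fp, hsub, hfp, hfpirr⟩ := exists_irredundant _ (f₀.map (algebraMap A Ap)) rfl
  choose! a₀ ha₀ ha₀' using fun x hx => List.mem_map.1 (hsub x hx)
  let f : List A := fp.map a₀
  have hfmap : f.map (algebraMap A Ap) = fp := by
    rw [List.map_map]
    conv_rhs => rw [← List.map_id fp]
    exact List.map_congr_left fun x hx => ha₀' x hx
  have hex : ∀ a ∈ f₀, ∃ s ∉ p.asIdeal, s * a ∈ Ideal.ofList f := fun a ha => by
    have h1 : algebraMap A Ap a ∈ (Ideal.ofList f).map (algebraMap A Ap) := by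
      rw [Ideal.map_ofList, hfmap, hfp]
      exact Ideal.subset_span (List.mem_map_of_mem ha)
    obtain ⟨s, hs, hsa⟩ := (IsLocalization.algebraMap_mem_map_algebraMap_iff p.asIdeal.primeCompl Ap _ a).1 h1
    exact ⟨s, hs, hsa⟩
  choose! s hs hsa using hex
  let g' : A := σ g * (f₀.map s).prod
  have hg' : g' ∉ p.asIdeal := by
    refine p.isPrime.mul_notMem hgp fun hmem => ?_
    obtain ⟨z, hz, hzp⟩ := (Ideal.IsPrime.multiset_prod_mem_iff_exists_mem p.isPrime
      ((f₀.map s : List A) : Multiset A)).1 (by simpa using hmem)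
    obtain ⟨a, ha, rfl⟩ := List.mem_map.1 (Multiset.mem_coe.1 hz)
    exact hs a ha hzp
  -- the localisations
  let G : D := g * algebraMap A D g'
  let G' : A := σ G
  have hG' : G' = σ g * g' := by simp [G', G]
  have hG'p : G' ∉ p.asIdeal := hG' ▸ p.isPrime.mul_notMem hgp hg'
  let DG := Localization.Away G
  let AG := Localization.Away G'
  let a := algebraMap A AG
  let d := algebraMap D DG
  let σG : DG →+* AG := Localization.awayMap σ.toRingHom G
  have hσG : ∀ x, σG (d x) = a (σ x) := fun x => by
    simp [σG, a, d, Localization.awayMap, IsLocalization.Away.map, IsLocalization.map_eq]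
    rfl
  have hσGsurj : Function.Surjective σG := fun z => by
    obtain ⟨⟨b, t⟩, hb⟩ := IsLocalization.surj (Submonoid.powers G') z
    obtain ⟨n, hn⟩ := t.2
    let q : Submonoid.powers G := ⟨G ^ n, ⟨n, rfl⟩⟩
    refine ⟨IsLocalization.mk' DG (algebraMap A D b) q, ?_⟩
    apply (IsLocalization.map_units AG t).mul_right_cancel
    rw [hb, show (algebraMap A AG) (t : A) = σG (d (q : D)) by
      rw [hσG]; exact congrArg a (hn.symm.trans (map_pow σ G n).symm),
      ← map_mul, IsLocalization.mk'_spec, hσG, AlgHom.commutes]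
    rfl
  have hσGk : RingHom.ker σG = Ideal.ofList (y.map d) := by
    haveI : IsLocalization ((Submonoid.powers G).map σ.toRingHom) AG := by
      rw [Submonoid.map_powers]; exact inferInstanceAs (IsLocalization (Submonoid.powers G') AG)
    rw [show σG = IsLocalization.map AG σ.toRingHom (Submonoid.powers G).le_comap_map from
      IsLocalization.ringHom_ext (Submonoid.powers G) (RingHom.ext fun x => by
        rw [RingHom.comp_apply, RingHom.comp_apply, IsLocalization.map_eq]; exact hσG x),
      IsLocalization.ker_map (Q := AG) (S := DG) (g := σ.toRingHom) rfl, ← Ideal.map_ofList, ← hyk]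
    rfl
  have hunit : ∀ b, b ∣ G' → IsUnit (a b) := fun b hb => isUnit_of_dvd_unit (map_dvd a hb)
    (IsLocalization.Away.algebraMap_isUnit G')
  have hIG : I.map a = Ideal.ofList (f.map a) := by
    let χ : Ag →+* AG := IsLocalization.Away.lift (σ g) (hunit _ ⟨g', hG'⟩)
    have hχ : χ.comp (algebraMap A Ag) = a := IsLocalization.Away.lift_comp _ _
    have h1 : I.map a = Ideal.ofList (f₀.map a) := by
      rw [← hχ, ← Ideal.map_map, hf₀, Ideal.map_ofList, List.map_map]
      rfl
    rw [h1]
    refine le_antisymm (Ideal.span_le.2 fun z hz => ?_) (ofList_mono fun z hz => ?_)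
    · obtain ⟨b, hb, rfl⟩ := List.mem_map.1 hz
      rw [SetLike.mem_coe, ← Ideal.unit_mul_mem_iff_mem _ (hunit (s b) (hG' ▸ dvd_mul_of_dvd_right
        (dvd_mul_of_dvd_right (List.dvd_prod (List.mem_map_of_mem hb)) _) _)), ← map_mul, ← Ideal.map_ofList]
      exact Ideal.mem_map_of_mem _ (hsa b hb)
    · obtain ⟨b, hb, rfl⟩ := List.mem_map.1 hz
      obtain ⟨x, hx, rfl⟩ := List.mem_map.1 hb
      exact List.mem_map_of_mem (ha₀ x hx)
  have hGu : IsUnit (d G) := IsLocalization.Away.algebraMap_isUnit G
  let e₀ := d.comp (algebraMap A D)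
  have hg'u : IsUnit (e₀ g') := by
    rw [show d G = d g * e₀ g' from map_mul d g _] at hGu
    exact (IsUnit.mul_iff.1 hGu).2
  let e : AG →+* DG := IsLocalization.Away.lift G' (g := e₀) (by
    rw [hG', map_mul]
    refine IsUnit.mul ?_ hg'u
    exact isUnit_of_dvd_unit (map_dvd e₀ (dvd_mul_right (σ g) _)) hg'u)
  have he : e.comp a = e₀ := IsLocalization.Away.lift_comp _ _
  have hJG : J.map d = Ideal.ofList (f.map e₀ ++ y.map d) := by
    rw [hJeq, Ideal.map_sup, Ideal.map_map, Ideal.ofList_append, hyk, Ideal.map_ofList]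
    congr 1
    change I.map e₀ = _
    rw [← he, ← Ideal.map_map, hIG, Ideal.map_ofList, List.map_map]
    rfl
  -- the Koszul-regular generators on the same open
  let κ : Dg →+* DG := IsLocalization.Away.lift g (g := d) (isUnit_of_dvd_unit (map_dvd d (dvd_mul_right g _)) hGu)
  have hκ : κ.comp (algebraMap D Dg) = d := IsLocalization.Away.lift_comp _ _
  have hκflat : κ.Flat := by
    letI := κ.toAlgebra
    haveI : IsScalarTower D Dg DG := IsScalarTower.of_algebraMap_eq' hκ.symm
    haveI : Module.Flat D DG := IsLocalization.flat DG (Submonoid.powers G)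
    exact (Module.flat_iff_of_isLocalization Dg (Submonoid.powers g) DG).2 inferInstance
  have hlG : LCI.IsKoszulRegularSeq DG (l.map κ) := isKoszulRegularSeq_map κ hκflat hl
  have hspanG : Ideal.ofList (l.map κ) = Ideal.ofList (f.map e₀ ++ y.map d) := by
    rw [← hJG, ← Ideal.map_ofList, ← hspan, Ideal.map_map, hκ]
  -- the two sequences have the same length
  let S := Localization.AtPrime P.asIdeal
  have hGP : G ∉ P.asIdeal := hG'p
  let ρ : DG →+* S := IsLocalization.Away.lift G (g := algebraMap D S) (IsLocalization.map_units S (⟨G, hGP⟩ : P.asIdeal.primeCompl))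
  have hρ : ρ.comp d = algebraMap D S := IsLocalization.Away.lift_comp _ _
  haveI : Module.Flat D S := IsLocalization.flat S P.asIdeal.primeCompl
  have hρflat : ρ.Flat := by
    letI := ρ.toAlgebra
    haveI : IsScalarTower D DG S := IsScalarTower.of_algebraMap_eq' hρ.symm
    exact (Module.flat_iff_of_isLocalization DG (Submonoid.powers G) S).2 inferInstance
  have hlS : LCI.IsKoszulRegularSeq S ((l.map κ).map ρ) := isKoszulRegularSeq_map ρ hρflat hlG
  have hspanS : Ideal.ofList ((l.map κ).map ρ) = Ideal.ofList ((f.map e₀ ++ y.map d).map ρ) := by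
    rw [← Ideal.map_ofList, hspanG, Ideal.map_ofList]
  have htopS : Ideal.ofList ((l.map κ).map ρ) ≤ IsLocalRing.maximalIdeal S := by
    rw [hspanS, ← Ideal.map_ofList, ← hJG, Ideal.map_map, hρ, ← Localization.AtPrime.map_eq_maximalIdeal]
    exact Ideal.map_mono hJP
  let yS : List S := y.map (algebraMap D S)
  let fS : List S := f.map ((algebraMap D S).comp (algebraMap A D))
  have hfy : (f.map e₀ ++ y.map d).map ρ = fS ++ yS := by
    simp only [List.map_append, List.map_map, fS, yS, e₀]
    rw [← hρ]
    rfl
  rw [hfy] at hspanS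
  have hyS : LCI.IsKoszulRegularSeq S yS :=
    isKoszulRegularSeq_map _ (RingHom.flat_algebraMap_iff.2 inferInstance) hy
  have hyStop : Ideal.ofList yS ≤ IsLocalRing.maximalIdeal S :=
    le_trans (ofList_mono fun z hz => List.mem_append_right _ hz) (hspanS ▸ htopS)
  have hcomap : p.asIdeal = P.asIdeal.comap (algebraMap A D) := by
    ext x; simp [P]
  obtain ⟨τ, hτd⟩ : ∃ τ : S →+* Ap, ∀ x, τ (algebraMap D S x) = algebraMap A Ap (σ x) :=
    ⟨Localization.localRingHom P.asIdeal p.asIdeal σ.toRingHom rfl,
      fun x => Localization.localRingHom_to_map ..⟩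
  obtain ⟨η, hηd⟩ : ∃ η : Ap →+* S, ∀ x, η (algebraMap A Ap x) = algebraMap D S (algebraMap A D x) :=
    ⟨Localization.localRingHom p.asIdeal P.asIdeal (algebraMap A D) hcomap,
      fun x => Localization.localRingHom_to_map ..⟩
  have hτη : ∀ x, τ (η x) = x := by
    refine RingHom.congr_fun (f := τ.comp η) (g := RingHom.id _) ?_
    refine IsLocalization.ringHom_ext p.asIdeal.primeCompl (RingHom.ext fun x => ?_)
    change τ (η (algebraMap A Ap x)) = algebraMap A Ap x
    rw [hηd, hτd, AlgHom.commutes]
    rfl
  have hτk : RingHom.ker τ = Ideal.ofList yS := by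
    have hM : P.asIdeal.primeCompl.map σ.toRingHom = p.asIdeal.primeCompl := by
      ext x
      constructor
      · rintro ⟨z, hz, rfl⟩; exact hz
      · exact fun hx => ⟨algebraMap A D x, fun h' => hx (hcomap ▸ h' : x ∈ p.asIdeal), σ.commutes x⟩
    haveI : IsLocalization (P.asIdeal.primeCompl.map σ.toRingHom) Ap := by rw [hM]; infer_instance
    rw [show τ = IsLocalization.map Ap σ.toRingHom P.asIdeal.primeCompl.le_comap_map from
      IsLocalization.ringHom_ext P.asIdeal.primeCompl (RingHom.ext fun x => by
        rw [RingHom.comp_apply, RingHom.comp_apply, hτd, IsLocalization.map_eq]; rfl),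
      IsLocalization.ker_map (Q := Ap) (S := S) (g := σ.toRingHom) rfl, ← Ideal.map_ofList, ← hyk]
    rfl
  have hfSη : fS = fp.map η := by
    rw [← hfmap, List.map_map]
    exact List.map_congr_left fun x _ => (hηd x).symm
  have hfpm : Ideal.ofList fp ≤ IsLocalRing.maximalIdeal Ap := by
    rw [hfp, ← hIp, ← Localization.AtPrime.map_eq_maximalIdeal]
    exact Ideal.map_mono hp
  have hkey : ∀ z ∈ Ideal.ofList fS, z - η (τ z) ∈ IsLocalRing.maximalIdeal S * Ideal.ofList yS := by
    intro z hz
    induction hz using Submodule.span_induction with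
    | mem z hz =>
      change z ∈ fS at hz
      rw [hfSη] at hz
      obtain ⟨x, -, rfl⟩ := List.mem_map.1 hz
      rw [hτη, sub_self]
      exact zero_mem _
    | zero => simp
    | add a b _ _ ha hb =>
      rw [map_add, map_add, add_sub_add_comm]
      exact add_mem ha hb
    | smul r a ha iha =>
      have hr : r - η (τ r) ∈ Ideal.ofList yS := by
        rw [← hτk, RingHom.mem_ker, map_sub, hτη, sub_self]
      have ham : a ∈ IsLocalRing.maximalIdeal S :=
        (le_trans (ofList_mono fun z hz => List.mem_append_left _ hz) (hspanS ▸ htopS)) ha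
      rw [smul_eq_mul, map_mul, map_mul, show r * a - η (τ r) * η (τ a) =
        a * (r - η (τ r)) + η (τ r) * (a - η (τ a)) by ring]
      exact add_mem (Ideal.mul_mem_mul ham hr) (Ideal.mul_mem_left _ _ iha)
  have hirr : ∀ pre x post, fS ++ yS = pre ++ x :: post → x ∉ Ideal.ofList (pre ++ post) := by
    intro pre x post heq hx
    rcases List.append_eq_append_iff.1 heq with ⟨as, rfl, hys⟩ | ⟨cs, hfs, hcs⟩
    · -- `x` is a term of `y`
      rw [List.append_assoc, Ideal.ofList_append] at hx
      obtain ⟨z, hz, w, hw, rfl⟩ := Submodule.mem_sup.1 hx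
      refine (irr_of_regular hyS hyStop) as (z + w) post hys ?_
      have hzw : z + w ∈ RingHom.ker τ := by
        rw [hτk, hys]; exact Ideal.subset_span (List.mem_append_right _ List.mem_cons_self)
      have hwk : w ∈ RingHom.ker τ := by
        rw [hτk, hys]
        refine ofList_mono (fun v hv => ?_) hw
        simp only [List.mem_append, List.mem_cons] at hv ⊢
        tauto
      have hzk : τ z = 0 := by simpa [show τ w = 0 from hwk, RingHom.mem_ker] using hzw
      have := hkey z hz
      rw [hzk, map_zero, sub_zero] at this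
      exact add_mem (Ideal.mem_sup_right this) (Ideal.mem_sup_left hw)
    · rcases cs with _ | ⟨c, cs⟩
      · -- `x` is the first term of `y`
        rw [List.append_nil] at hfs
        subst hfs
        rw [List.nil_append] at hcs
        rw [Ideal.ofList_append] at hx
        obtain ⟨z, hz, w, hw, rfl⟩ := Submodule.mem_sup.1 hx
        refine (irr_of_regular hyS hyStop) [] (z + w) post hcs.symm ?_
        have hzw : z + w ∈ RingHom.ker τ := by
          rw [hτk, ← hcs]; exact Ideal.subset_span List.mem_cons_self
        have hwk : w ∈ RingHom.ker τ := by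
          rw [hτk, ← hcs]
          exact ofList_mono (fun v hv => List.mem_cons_of_mem _ hv) hw
        have hzk : τ z = 0 := by simpa [show τ w = 0 from hwk, RingHom.mem_ker] using hzw
        have := hkey z hz
        rw [hzk, map_zero, sub_zero] at this
        exact add_mem (Ideal.mem_sup_right this) (Ideal.mem_sup_left hw)
      · -- `x` is a term of `f`
        simp only [List.cons_append, List.cons.injEq] at hcs
        obtain ⟨rfl, rfl⟩ := hcs
        rw [hfSη] at hfs
        obtain ⟨pre₀, tl, hfp', rfl, htl⟩ := List.map_eq_append_iff.1 hfs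
        obtain ⟨x₀, post₀, rfl, rfl, rfl⟩ := List.map_eq_cons_iff.1 htl
        refine hfpirr pre₀ x₀ post₀ hfp' ?_
        have h1 := Ideal.mem_map_of_mem τ hx
        rw [hτη, ← List.append_assoc, Ideal.ofList_append, Ideal.map_sup, ← hτk, ← List.map_append,
          Ideal.map_ofList, List.map_map, show (τ : _ → _) ∘ η = id from funext hτη, List.map_id,
          (Ideal.map_eq_bot_iff_le_ker τ).2 le_rfl, sup_bot_eq] at h1
        exact h1
  have hlen : (f.map e₀ ++ y.map d).length = (l.map κ).length := by
    have h1 := length_le_of_irr hspanS (irr_of_irredundant hirr)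
    have h2 := length_le_of_irr hspanS.symm (irr_of_regular hlS htopS)
    simp only [List.length_map, List.length_append, fS, yS] at h1 h2 ⊢
    omega
  have hKR := isKoszulRegularSeq_of_length_eq hlG hspanG hlen
  have hyG : LCI.IsKoszulRegularSeq DG (y.map d) :=
    isKoszulRegularSeq_map _ (RingHom.flat_algebraMap_iff.2 (IsLocalization.flat _ (Submonoid.powers G))) hy
  refine ⟨G', hG'p, (f.map e₀).map σG, isKoszulRegularSeq_of_append σG hyG hσGsurj hσGk hKR, ?_⟩
  refine (show Ideal.map a I = Ideal.ofList _ from ?_)
  rw [hIG, List.map_map]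
  refine congrArg _ ?_
  rw [show f = fp.map a₀ from rfl, List.map_map, List.map_map]
  exact List.map_congr_left fun x _ => ((hσG _).trans (congrArg a (σ.commutes (a₀ x)))).symm

end Groth.Agent.KReg44
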