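import Groth.Agent.KReg44.Swap
import Groth.Agent.KosCone.Basic
import Groth.Prelude.Def_LCI2
import Mathlib.RingTheory.Flat.FaithfullyFlat.Basic
import Mathlib.RingTheory.Localization.AtPrime.Basic
import Mathlib.RingTheory.Localization.BaseChange

/-!
# Koszul-regular sequences: change of the head, descent, local nature
-/

open CategoryTheory Limits CochainComplex HomComplex TensorProduct

universe u

namespace Groth.Agent.KReg44

variable {R : Type u} [CommRing R]

theorem exists_dot : ∀ (l : List R) (a : R), a ∈ Ideal.ofList l → ∃ v : ℕ → R, KoszulWiebe.dot l v = a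
  | [], a, ha => ⟨0, by simp [KoszulWiebe.dot] at ha ⊢; exact ha.symm⟩
  | f :: l, a, ha => by
    rw [Ideal.ofList_cons] at ha
    obtain ⟨b, hb, w, hw, rfl⟩ := Submodule.mem_sup.1 ha
    obtain ⟨c, rfl⟩ := Ideal.mem_span_singleton'.1 hb
    obtain ⟨v, hv⟩ := exists_dot l w hw
    refine ⟨fun i => if i = 0 then c else v (i - 1), ?_⟩
    simp [KoszulWiebe.dot, hv, mul_comm]

/-- The ideal generated by the sequence kills Koszul homology. -/
theorem smul_homology_eq_zero {l : List R} {a : R} (ha : a ∈ Ideal.ofList l) (i : ℤ)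
    (x : (Koszul.koszul R l).homology i) : a • x = 0 := by
  obtain ⟨v, rfl⟩ := exists_dot l a ha
  let h : Homotopy (KoszulWiebe.dot l v • 𝟙 (Koszul.koszul R l)) 0 :=
    (Cochain.equivHomotopy _ _).symm
      ⟨KoszulWiebe.Lop l v, by
        rw [KoszulWiebe.δ_Lop, KoszulWiebe.ofHom_smul', Cochain.ofHom_zero, add_zero]⟩
  have h1 := h.homologyMap_eq i
  rw [KosCone.Basic.homologyMap_smul_id, HomologicalComplex.homologyMap_zero] at h1
  exact ConcreteCategory.congr_hom h1 x

theorem subsingleton_homology {l : List R} {i : ℤ} (h : IsZero ((Koszul.koszul R l).homology i)) :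
    Subsingleton ((Koszul.koszul R l).homology i) := ModuleCat.subsingleton_of_isZero h

theorem isZero_cons_iff (f : R) (l : List R) (i : ℤ) :
    IsZero ((Koszul.koszul R (f :: l)).homology i) ↔
      (∀ x : (Koszul.koszul R l).homology i, ∃ y, f • y = x) ∧
        ∀ x : (Koszul.koszul R l).homology (i + 1), f • x = 0 → x = 0 := by
  constructor
  · intro h
    haveI := subsingleton_homology h
    refine ⟨fun x => (KosCone.Basic.ι_eq_zero_iff f l i x).mp (Subsingleton.elim _ _), fun x hx => ?_⟩
    obtain ⟨y, rfl⟩ := (KosCone.Basic.smul_eq_zero_iff f l i (i + 1) rfl x).mp hx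
    rw [Subsingleton.elim y 0, map_zero]
  · rintro ⟨h1, h2⟩
    refine @ModuleCat.isZero_of_subsingleton _ _ _ ⟨fun y z => ?_⟩
    suffices H : ∀ w : (Koszul.koszul R (f :: l)).homology i, w = 0 by rw [H y, H z]
    intro w
    have hd : KosCone.Basic.δ f l i (i + 1) rfl w = 0 :=
      h2 _ ((KosCone.Basic.smul_eq_zero_iff f l i (i + 1) rfl _).mpr ⟨w, rfl⟩)
    obtain ⟨x, rfl⟩ := (KosCone.Basic.δ_eq_zero_iff f l i (i + 1) rfl w).mp hd
    exact (KosCone.Basic.ι_eq_zero_iff f l i x).mpr (h1 x)

/-- The head may be changed by a unit and by the ideal of the tail. -/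
theorem isKoszulRegularSeq_head {f : R} {l : List R} (hl : LCI.IsKoszulRegularSeq R (f :: l))
    {u : R} (hu : IsUnit u) {a : R} (ha : a ∈ Ideal.ofList l) :
    LCI.IsKoszulRegularSeq R ((u * f + a) :: l) := by
  intro i hi
  obtain ⟨h1, h2⟩ := (isZero_cons_iff f l i).mp (hl i hi)
  have key : ∀ (j : ℤ) (x : (Koszul.koszul R l).homology j), (u * f + a) • x = u • f • x := fun j x => by
    rw [add_smul, smul_homology_eq_zero ha, add_zero, mul_smul]
  refine (isZero_cons_iff _ l i).mpr ⟨fun x => ?_, fun x hx => h2 x ?_⟩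
  · obtain ⟨v, hv⟩ := hu
    obtain ⟨y, rfl⟩ := h1 x
    refine ⟨((v⁻¹ : Rˣ) : R) • y, ?_⟩
    rw [key, smul_smul f, mul_comm f, mul_smul, smul_smul u, ← hv, Units.mul_inv, one_smul]
  · rw [key] at hx
    exact (hu.smul_eq_zero).mp hx

theorem isKoszulRegularSeq_perm {l l' : List R} (h : List.Perm l l') (hl : LCI.IsKoszulRegularSeq R l) :
    LCI.IsKoszulRegularSeq R l' := isKoszul_perm h hl

/-- Exactness after extension of scalars, in terms of `lTensor`. -/
theorem exact_lTensor_of_exactAt {S : Type u} [CommRing S] [inst : Algebra R S] {l : List R} {i : ℤ}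
    (h : ((((KoszulWiebe.ext (algebraMap R S)).mapHomologicalComplex (ComplexShape.up ℤ)).obj
      (Koszul.koszul R l)).ExactAt i)) :
    Function.Exact (((Koszul.koszul R l).sc i).f.hom.lTensor S) (((Koszul.koszul R l).sc i).g.hom.lTensor S) := by
  obtain ⟨φ, hφ⟩ : ∃ φ : R →+* S, φ = algebraMap R S := ⟨_, rfl⟩
  rw [← hφ] at h
  have hinst : inst = φ.toAlgebra := Algebra.algebra_ext _ _ fun r => by rw [hφ]; rfl
  subst hinst
  exact (ShortComplex.ShortExact.moduleCat_exact_iff_function_exact _).mp h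

section BaseChange

variable {S : Type u} [CommRing S] (φ : R →+* S)

theorem isKoszulRegularSeq_map (hφ : φ.Flat) {l : List R} (hl : LCI.IsKoszulRegularSeq R l) :
    LCI.IsKoszulRegularSeq S (l.map φ) :=
  fun i hi => KoszulWiebe.isZero_homology_map φ hφ l hl i hi

/-- Koszul regularity descends along faithfully flat ring maps. -/
theorem isKoszulRegularSeq_of_map [Algebra R S] [Module.FaithfullyFlat R S] {l : List R}
    (hl : LCI.IsKoszulRegularSeq S (l.map (algebraMap R S))) : LCI.IsKoszulRegularSeq R l := by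
  intro i hi
  obtain ⟨e⟩ := KoszulWiebe.nonempty_koszulIso (algebraMap R S) l
  have h1 := ((Koszul.koszul S (l.map (algebraMap R S))).exactAt_iff_isZero_homology i).2 (hl i hi)
  have h2 : ((((KoszulWiebe.ext (algebraMap R S)).mapHomologicalComplex (ComplexShape.up ℤ)).obj
      (Koszul.koszul R l)).ExactAt i) := h1.of_iso e.symm
  refine ((Koszul.koszul R l).exactAt_iff_isZero_homology i).1 ?_
  have h3 := exact_lTensor_of_exactAt h2
  refine (ShortComplex.ShortExact.moduleCat_exact_iff_function_exact _).mpr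
    (Module.FaithfullyFlat.lTensor_reflects_exact R S _ _ ?_)
  exact h3

end BaseChange

theorem exact_of_forall_maximal {X Y Z : Type u} [AddCommGroup X] [Module R X] [AddCommGroup Y] [Module R Y]
    [AddCommGroup Z] [Module R Z] (f : X →ₗ[R] Y) (g : Y →ₗ[R] Z) (hfg : ∀ x, g (f x) = 0)
    (h : ∀ P : Ideal R, ∀ _ : P.IsMaximal,
      Function.Exact (f.lTensor (Localization.AtPrime P)) (g.lTensor (Localization.AtPrime P))) :
    Function.Exact f g := by
  intro z
  refine ⟨fun hz => ?_, by rintro ⟨x, rfl⟩; exact hfg x⟩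
  by_contra hne
  let T : Ideal R := (LinearMap.range f).comap (LinearMap.toSpanSingleton R Y z)
  have hT : T ≠ ⊤ := fun hT => hne (by
    have h1 : (1 : R) ∈ T := hT ▸ Submodule.mem_top
    simpa [T] using h1)
  obtain ⟨P, hP, hle⟩ := Ideal.exists_le_maximal T hT
  let mX : X →ₗ[R] Localization.AtPrime P ⊗[R] X := TensorProduct.mk R (Localization.AtPrime P) X 1
  let mY : Y →ₗ[R] Localization.AtPrime P ⊗[R] Y := TensorProduct.mk R (Localization.AtPrime P) Y 1
  obtain ⟨y', hy'⟩ := (h P hP (mY z)).mp (by simp [mY, hz])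
  obtain ⟨⟨x, s⟩, hxs⟩ := IsLocalizedModule.surj P.primeCompl mX y'
  have e : mY ((s : R) • z) = mY (f x) := by
    rw [map_smul, ← hy', ← map_smul]
    simp only [Submonoid.smul_def] at hxs
    rw [hxs]
    simp [mX, mY]
  obtain ⟨t, ht⟩ := IsLocalizedModule.exists_of_eq (S := P.primeCompl) e
  have hmem : (t : R) * (s : R) ∈ T := by
    refine ⟨(t : R) • x, ?_⟩
    rw [map_smul, LinearMap.toSpanSingleton_apply, mul_smul]
    simpa [Submonoid.smul_def] using ht.symm
  exact (t * s).2 (hle hmem)

/-- Vanishing of Koszul homology may be checked at the primes. -/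
theorem isKoszulRegularSeq_of_forall_prime {l : List R}
    (h : ∀ P : Ideal R, ∀ _ : P.IsMaximal,
      LCI.IsKoszulRegularSeq (Localization.AtPrime P) (l.map (algebraMap R (Localization.AtPrime P)))) :
    LCI.IsKoszulRegularSeq R l := by
  intro i hi
  refine ((Koszul.koszul R l).exactAt_iff_isZero_homology i).1 ?_
  refine (ShortComplex.ShortExact.moduleCat_exact_iff_function_exact _).mpr
    (exact_of_forall_maximal _ _ (ShortComplex.moduleCat_zero_apply _) fun P hP => ?_)
  let φ := algebraMap R (Localization.AtPrime P)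
  obtain ⟨e⟩ := KoszulWiebe.nonempty_koszulIso φ l
  have h1 := ((Koszul.koszul (Localization.AtPrime P) (l.map φ)).exactAt_iff_isZero_homology i).2
    (h P hP i hi)
  have h2 : ((((KoszulWiebe.ext φ).mapHomologicalComplex (ComplexShape.up ℤ)).obj
      (Koszul.koszul R l)).ExactAt i) := h1.of_iso e.symm
  exact exact_lTensor_of_exactAt h2

end Groth.Agent.KReg44
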