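import Groth.Agent.KoszulWiebe.BaseChange

/-!
# Permuting the sequence of a Koszul complex
-/

open CategoryTheory Limits CochainComplex HomComplex

universe u

namespace Groth.Agent.KReg44

variable {R : Type u} [CommRing R]

section
variable (M : CochainComplex (ModuleCat.{u} R) ℤ) (a b : R)

/-- The cone of multiplication by `a`. -/
noncomputable abbrev C : CochainComplex (ModuleCat.{u} R) ℤ := mappingCone (a • 𝟙 M)

/-- `C_b M ⟶ C_b C_a M`. -/
noncomputable def swapβ : C M b ⟶ C (C M a) b :=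
  mappingCone.map (b • 𝟙 M) (b • 𝟙 (C M a)) (mappingCone.inr (a • 𝟙 M)) (mappingCone.inr (a • 𝟙 M))
    (by simp)

/-- The homotopy part of the swap. -/
noncomputable def swapα : Cochain (C M b) (C (C M a) b) (-1) :=
  mappingCone.descCochain (b • 𝟙 M)
    (-((mappingCone.inl (a • 𝟙 M)).comp (mappingCone.inl (b • 𝟙 (C M a)))
      (show (-1 : ℤ) + -1 = -2 by norm_num)))
    ((mappingCone.inl (a • 𝟙 M)).comp (Cochain.ofHom (mappingCone.inr (b • 𝟙 (C M a)))) (add_zero _))
    (by norm_num)

theorem δ_swapα : δ (-1) 0 (swapα M a b) = Cochain.ofHom ((a • 𝟙 (C M b)) ≫ swapβ M a b) := by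
  rw [swapα, mappingCone.δ_descCochain _ _ _ _ 0 (by norm_num),
    δ_neg, δ_comp_ofHom, mappingCone.δ_inl,
    δ_comp _ _ (show (-1 : ℤ) + -1 = -2 by norm_num) 0 0 (-1) (by norm_num) (by norm_num) (by norm_num),
    mappingCone.δ_inl, mappingCone.δ_inl,
    mappingCone.ext_cochain_from_iff _ (-1) 0 (by norm_num)]
  simp only [swapβ, mappingCone.map, KoszulWiebe.ofHom_smul', Linear.smul_comp, Category.id_comp,
    Int.negOnePow_zero, Int.negOnePow_neg, Int.negOnePow_one, one_smul, Units.neg_smul,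
    Cochain.comp_add, Cochain.add_comp, Cochain.comp_neg, Cochain.neg_comp, Cochain.smul_comp,
    Cochain.comp_smul, Cochain.id_comp, Cochain.comp_id, Cochain.ofHom_comp,
    mappingCone.inl_fst_assoc, mappingCone.inl_snd_assoc, mappingCone.inr_fst_assoc,
    mappingCone.inr_snd_assoc, mappingCone.inl_desc, mappingCone.inr_desc]
  constructor
  · simp
  · simp

/-- Cones of two multiplications commute. -/
noncomputable def swapHom : C (C M b) a ⟶ C (C M a) b :=
  mappingCone.desc _ (swapα M a b) (swapβ M a b) (δ_swapα M a b)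

theorem swapHom_comp : swapHom M a b ≫ swapHom M b a = 𝟙 _ := by
  ext n : 1
  refine mappingCone.ext_from _ (n + 1) n rfl ?_ ?_
  · refine mappingCone.ext_from _ (n + 1 + 1) (n + 1) rfl ?_ ?_
    · simp [swapHom, swapα, swapβ, mappingCone.map,
        Cochain.comp_v _ _ (show (-1 : ℤ) + -1 = -2 by norm_num) (n + 1 + 1) (n + 1) n (by omega) (by omega)]
    · simp [swapHom, swapα, swapβ, mappingCone.map]
  · refine mappingCone.ext_from _ (n + 1) n rfl ?_ ?_
    · simp [swapHom, swapα, swapβ, mappingCone.map]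
    · simp [swapHom, swapα, swapβ, mappingCone.map]

/-- The isomorphism. -/
noncomputable def swapIso : C (C M b) a ≅ C (C M a) b where
  hom := swapHom M a b
  inv := swapHom M b a
  hom_inv_id := swapHom_comp M a b
  inv_hom_id := swapHom_comp M b a

end

theorem nonempty_iso_of_perm {l l' : List R} (h : List.Perm l l') :
    Nonempty (Koszul.koszul R l ≅ Koszul.koszul R l') := by
  induction h with
  | nil => exact ⟨Iso.refl _⟩
  | cons x _ ih =>
    obtain ⟨e⟩ := ih
    exact KoszulWiebe.nonempty_coneIso _ _ e (by simp)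
  | swap x y l => exact ⟨swapIso (Koszul.koszul R l) y x⟩
  | trans _ _ ih₁ ih₂ =>
    obtain ⟨e₁⟩ := ih₁
    obtain ⟨e₂⟩ := ih₂
    exact ⟨e₁ ≪≫ e₂⟩

theorem isKoszul_perm {l l' : List R} (h : List.Perm l l')
    (hl : ∀ i : ℤ, i ≠ 0 → IsZero ((Koszul.koszul R l).homology i)) (i : ℤ) (hi : i ≠ 0) :
    IsZero ((Koszul.koszul R l').homology i) := by
  obtain ⟨e⟩ := nonempty_iso_of_perm h
  exact (hl i hi).of_iso ((HomologicalComplex.homologyFunctor _ _ i).mapIso e.symm)

end Groth.Agent.KReg44
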